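import Cfsg.Agent.H68.ExtClosed.Basic
import Mathlib.GroupTheory.Transfer

/-!
Extremely closed abelian `p`-subgroups: the inherited condition and its first consequences.
-/

set_option autoImplicit false
set_option linter.style.haveILetI false
set_option linter.unusedSectionVars false

namespace H31.EXO

open H70 H68.EC

universe u

variable {G : Type u} [Group G] {p : ℕ}

/-- `H` and each conjugate of it lie in `K H` for a `p'`-subgroup `K` of the join on which `H` acts
without fixed points. -/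
def Cond (p : ℕ) (H : Subgroup G) : Prop :=
  ∀ g : G, ∃ K : Subgroup G, K ≤ H ⊔ cj g H ∧ (Nat.card K).Coprime p ∧
    H ⊔ cj g H ≤ Subgroup.normalizer (K : Set G) ∧ cj g H ≤ K ⊔ H ∧
    K ⊓ Subgroup.centralizer (H : Set G) = ⊥

/-- `G = N(H) O_{p'}(G)` elementwise. -/
def Factorises (p : ℕ) (H : Subgroup G) : Prop :=
  ∀ g : G, ∃ m ∈ Cfsg.pPrimeCore p G, m⁻¹ * g ∈ Subgroup.normalizer (H : Set G)

theorem pow_eq_self_of_modEq {y : G} {n e : ℕ} (h : orderOf y ∣ n) (he : e ≡ 1 [MOD n]) :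
    y ^ e = y := by
  conv_rhs => rw [← pow_one y]
  exact pow_eq_pow_iff_modEq.2 (he.of_dvd h)

theorem pow_eq_one_of_modEq {y : G} {n e : ℕ} (h : orderOf y ∣ n) (he : e ≡ 0 [MOD n]) :
    y ^ e = 1 :=
  orderOf_dvd_iff_pow_eq_one.1 (h.trans (Nat.modEq_zero_iff_dvd.1 he))

theorem exists_mul_pow {K : Subgroup G} {w : G} (hw : w ∈ Subgroup.normalizer (K : Set G)) {m : G}
    (hm : m ∈ K) : ∀ j : ℕ, ∃ m' ∈ K, (m * w) ^ j = m' * w ^ j := by
  intro j
  induction j with
  | zero => exact ⟨1, one_mem _, by simp⟩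
  | succ j ih =>
    obtain ⟨m', hm', e⟩ := ih
    refine ⟨m' * (w ^ j * m * (w ^ j)⁻¹), mul_mem hm'
      ((Subgroup.mem_normalizer_iff.1 (pow_mem hw j) m).1 hm), ?_⟩
    rw [pow_succ, e]
    group

theorem eq_one_of_coprime {H : Subgroup G} [Fact p.Prime] (hH : IsPGroup p H) {x : G} {n : ℕ}
    (hn : n.Coprime p) (hxH : x ∈ H) (hx : x ^ n = 1) : x = 1 := by
  obtain ⟨k, hk⟩ := hH ⟨x, hxH⟩
  have hk' : x ^ p ^ k = 1 := congrArg Subtype.val hk
  have h := Nat.dvd_gcd (orderOf_dvd_of_pow_eq_one hx) (orderOf_dvd_of_pow_eq_one hk')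
  rw [(hn.pow_right k).gcd_eq_one, Nat.dvd_one] at h
  exact orderOf_eq_one_iff.1 h

theorem eq_one_of_mem {H K : Subgroup G} [Fact p.Prime] (hH : IsPGroup p H)
    (hK : (Nat.card K).Coprime p) {x : G} (hxH : x ∈ H) (hxK : x ∈ K) : x = 1 :=
  eq_one_of_coprime hH hK hxH (congrArg Subtype.val (pow_card_eq_one' (x := (⟨x, hxK⟩ : K))))

/-- A coset of a `p'`-group with all commutators inside contains a fixed point. -/
theorem mem_of_commutators [Finite G] [Fact p.Prime] {H T N : Subgroup G} (hH : IsPGroup p H)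
    (hN : (Nat.card N).Coprime p) (hHN : H ≤ Subgroup.normalizer (N : Set G)) (hNT : N ≤ T)
    (hfix : T ⊓ Subgroup.centralizer (H : Set G) = ⊥) {x : G} (hx : x ∈ T)
    (hc : ∀ h ∈ H, h * x * h⁻¹ * x⁻¹ ∈ N) : x ∈ N := by
  let α := {y : G // y * x⁻¹ ∈ N}
  let act : MulAction H α :=
    { smul := fun h y => ⟨(h : G) * y.1 * (h : G)⁻¹, by
        rw [show (h : G) * y.1 * (h : G)⁻¹ * x⁻¹ =
          (h : G) * (y.1 * x⁻¹) * (h : G)⁻¹ * ((h : G) * x * (h : G)⁻¹ * x⁻¹) by group]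
        exact mul_mem ((Subgroup.mem_normalizer_iff.1 (hHN h.2) _).1 y.2) (hc h h.2)⟩
      one_smul := fun y => Subtype.ext (show (1 : G) * y.1 * (1 : G)⁻¹ = y.1 by group)
      mul_smul := fun a b y => Subtype.ext (show (a : G) * b * y.1 * ((a : G) * b)⁻¹ =
        (a : G) * ((b : G) * y.1 * (b : G)⁻¹) * (a : G)⁻¹ by group) }
  have hcard : Nat.card α = Nat.card N :=
    Nat.card_congr ⟨fun y => ⟨y.1 * x⁻¹, y.2⟩, fun n => ⟨n.1 * x, by simp⟩,
      fun y => Subtype.ext (inv_mul_cancel_right _ _), fun n => Subtype.ext (mul_inv_cancel_right _ _)⟩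
  haveI : Finite α := inferInstanceAs (Finite {y : G // y * x⁻¹ ∈ N})
  obtain ⟨y, hy⟩ := hH.nonempty_fixed_point_of_prime_not_dvd_card α (by
    rw [hcard]
    exact (Nat.Prime.coprime_iff_not_dvd Fact.out).1 hN.symm)
  have hy1 : y.1 = 1 := by
    have h1 : y.1 ∈ T ⊓ Subgroup.centralizer (H : Set G) := by
      refine ⟨?_, Subgroup.mem_centralizer_iff.2 fun h hh => ?_⟩
      · rw [show y.1 = y.1 * x⁻¹ * x by group]
        exact mul_mem (hNT y.2) hx
      · have h2 : h * y.1 * h⁻¹ = y.1 := congrArg Subtype.val (hy ⟨h, hh⟩)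
        exact mul_inv_eq_iff_eq_mul.1 h2
    rwa [hfix, Subgroup.mem_bot] at h1
  have h3 := y.2
  rw [hy1, one_mul] at h3
  simpa using inv_mem h3

/-- In `K⟨z⟩` each element of the coset `K z` is conjugate to some `z y` with `y` commuting with `z`. -/
theorem exists_conj_centralized [Finite G] {K : Subgroup G} {z : G}
    (hz : z ∈ Subgroup.normalizer (K : Set G)) (hcop : (orderOf z).Coprime (Nat.card K)) {a : G}
    (ha : a ∈ K) : ∃ c ∈ K, ∃ y ∈ K, Commute z y ∧ a * z = c * (z * y) * c⁻¹ := by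
  classical
  set Y : Subgroup G := K ⊓ Subgroup.centralizer {z} with hY
  have hcomm : ∀ y : Y, Commute z (y : G) := fun y =>
    (Subgroup.mem_centralizer_singleton_iff.1 y.2.2).symm
  have hconj : ∀ x ∈ K, z * x * z⁻¹ ∈ K := fun x hx => (Subgroup.mem_normalizer_iff.1 hz x).1 hx
  let F : K × Y → K := fun t => ⟨(t.1 : G) * (z * (t.2 : G)) * (t.1 : G)⁻¹ * z⁻¹, by
    rw [show (t.1 : G) * (z * (t.2 : G)) * (t.1 : G)⁻¹ * z⁻¹ =
      (t.1 : G) * (z * ((t.2 : G) * (t.1 : G)⁻¹) * z⁻¹) by group]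
    exact mul_mem t.1.2 (hconj _ (mul_mem t.2.2.1 (inv_mem t.1.2)))⟩
  obtain ⟨e, he1, he0⟩ := Nat.chineseRemainder hcop 1 0
  have hpow : ∀ y : Y, (z * (y : G)) ^ e = z := fun y => by
    rw [(hcomm y).mul_pow, pow_eq_self_of_modEq dvd_rfl he1,
      pow_eq_one_of_modEq (Subgroup.orderOf_dvd_natCard K y.2.1) he0, mul_one]
  have hfib : ∀ t s : K × Y, F t = F s →
      (s.1 : G)⁻¹ * (t.1 : G) ∈ Y ∧ ((s.1 : G)⁻¹ * t.1 = 1 → t = s) := by
    intro t s h
    have h0 : (t.1 : G) * (z * (t.2 : G)) * (t.1 : G)⁻¹ =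
        (s.1 : G) * (z * (s.2 : G)) * (s.1 : G)⁻¹ := mul_right_cancel (congrArg Subtype.val h)
    set d := (s.1 : G)⁻¹ * (t.1 : G) with hd
    have h1 : d * (z * (t.2 : G)) * d⁻¹ = z * (s.2 : G) := by
      calc d * (z * (t.2 : G)) * d⁻¹
          = (s.1 : G)⁻¹ * ((t.1 : G) * (z * (t.2 : G)) * (t.1 : G)⁻¹) * s.1 := by rw [hd]; group
        _ = z * (s.2 : G) := by rw [h0]; group
    have h2 : d * z * d⁻¹ = z := by
      have := congrArg (fun x => x ^ e) h1
      simpa [conj_pow, hpow] using this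
    refine ⟨⟨K.mul_mem (K.inv_mem s.1.2) t.1.2,
      Subgroup.mem_centralizer_singleton_iff.2 (mul_inv_eq_iff_eq_mul.1 h2)⟩, fun hd1 => ?_⟩
    have e1 : t.1 = s.1 := Subtype.ext (eq_of_inv_mul_eq_one hd1).symm
    rw [e1] at h0
    exact Prod.ext e1 (Subtype.ext (mul_left_cancel (mul_left_cancel (mul_right_cancel h0))))
  let σ : Set.range F → K × Y := fun r => r.2.choose
  have hσ : ∀ r : Set.range F, F (σ r) = r := fun r => r.2.choose_spec
  let Ψ : K × Y → Set.range F × Y := fun t =>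
    (⟨F t, t, rfl⟩, ⟨_, (hfib t (σ ⟨F t, t, rfl⟩) (hσ ⟨F t, t, rfl⟩).symm).1⟩)
  have hΨ : Function.Injective Ψ := by
    intro t s h
    have h0 : (⟨F t, t, rfl⟩ : Set.range F) = ⟨F s, s, rfl⟩ := congrArg Prod.fst h
    have h1 : ((σ ⟨F t, t, rfl⟩).1 : G)⁻¹ * (t.1 : G) = ((σ ⟨F s, s, rfl⟩).1 : G)⁻¹ * (s.1 : G) :=
      congrArg (fun x : Set.range F × Y => ((x.2 : Y) : G)) h
    rw [h0] at h1
    exact (hfib t s (congrArg Subtype.val h0)).2 (by rw [mul_left_cancel h1, inv_mul_cancel])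
  have hle := Nat.card_le_card_of_injective Ψ hΨ
  simp only [Nat.card_prod] at hle
  have hfull := Set.eq_of_subset_of_ncard_le (Set.subset_univ (Set.range F)) (by
    rw [Set.ncard_univ, ← Nat.card_coe_set_eq]
    exact Nat.le_of_mul_le_mul_right hle Nat.card_pos) (Set.toFinite _)
  obtain ⟨t, ht⟩ : (⟨a, ha⟩ : K) ∈ Set.range F := by rw [hfull]; trivial
  refine ⟨t.1, t.1.2, t.2, t.2.2.1, hcomm t.2, ?_⟩
  have ht' : (t.1 : G) * (z * (t.2 : G)) * (t.1 : G)⁻¹ * z⁻¹ = a := congrArg Subtype.val ht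
  rw [← ht', inv_mul_cancel_right]

/-- Two `p`-subgroups of the same order in `K H`, `K` a `p'`-group, are conjugate by `K`. -/
theorem exists_conj_of_le_sup [Finite G] [Fact p.Prime] {H H' K : Subgroup G} (hH : IsPGroup p H)
    (hH' : IsPGroup p H') (hK : (Nat.card K).Coprime p)
    (hnorm : H ≤ Subgroup.normalizer (K : Set G))
    (hle : H' ≤ K ⊔ H) (hcard : Nat.card H' = Nat.card H) : ∃ k ∈ K, cj k H = H' := by
  set L := K ⊔ H with hL
  obtain ⟨R, hR⟩ := (hH.of_equiv (Subgroup.subgroupOfEquivOfLe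
    (le_sup_right : H ≤ L)).symm).exists_le_sylow
  have hRH : (R : Subgroup L).map L.subtype = H := by
    refine le_antisymm ?_ fun x hx =>
      ⟨⟨x, le_sup_right (a := K) hx⟩, hR (show (⟨x, le_sup_right (a := K) hx⟩ : L) ∈ _ from hx), rfl⟩
    rintro x ⟨r, hr, rfl⟩
    obtain ⟨m, hm⟩ := R.2.exists_card_eq
    have h1 : Nat.card (R : Subgroup L) ∣ Nat.card K * Nat.card H :=
      (Subgroup.card_subgroup_dvd_card _).trans (card_sup_dvd hnorm)
    have hco : (Nat.card (R : Subgroup L)).Coprime (Nat.card K) := by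
      rw [hm]
      exact Nat.Coprime.pow_left m hK.symm
    have h2 : Nat.card (R : Subgroup L) ∣ Nat.card H := hco.dvd_of_dvd_mul_left h1
    have heq : H.subgroupOf L = (R : Subgroup L) := Subgroup.eq_of_le_of_card_ge hR (by
      rw [Nat.card_congr (Subgroup.subgroupOfEquivOfLe (le_sup_right : H ≤ L)).toEquiv]
      exact Nat.le_of_dvd Nat.card_pos h2)
    exact (heq ▸ hr : r ∈ H.subgroupOf L)
  obtain ⟨c, hc, hcH⟩ := H68.exists_cj_le_of_sylow R hH' hle
  rw [hRH] at hcH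
  have he : cj c H' = H := Subgroup.eq_of_le_of_card_ge hcH (by rw [card_cj, hcard])
  obtain ⟨k, hk, h, hh, hkh⟩ := exists_mul_of_mem_sup hnorm (inv_mem hc)
  refine ⟨k, hk, ?_⟩
  rw [cj_eq_iff] at he
  rw [he, hkh, ← cj_cj, cj_of_mem hh]

/-! ### Inheritance -/

theorem Cond.map [Finite G] [Fact p.Prime] {G' : Type*} [Group G'] {H : Subgroup G}
    (hH : IsPGroup p H) (hc : Cond p H) {f : G →* G'} (hf : Function.Surjective f) :
    Cond p (H.map f) := by
  intro g'
  obtain ⟨g, rfl⟩ := hf g'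
  obtain ⟨K, hK1, hK2, hK3, hK4, hK5⟩ := hc g
  rw [← map_cj, ← Subgroup.map_sup]
  refine ⟨K.map f, Subgroup.map_mono hK1, hK2.coprime_dvd_left (Subgroup.card_map_dvd K f),
    (Subgroup.map_mono hK3).trans (Subgroup.le_normalizer_map f), ?_, ?_⟩
  · rw [← Subgroup.map_sup]
    exact Subgroup.map_mono hK4
  · refine (Subgroup.eq_bot_iff_forall _).2 ?_
    rintro _ ⟨⟨k, hk, rfl⟩, hcen⟩
    have hHK : H ≤ Subgroup.normalizer (K : Set G) := le_sup_left.trans hK3
    have hkm : k ∈ f.ker ⊓ K := by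
      refine mem_of_commutators hH (hK2.coprime_dvd_left (Subgroup.card_dvd_of_le inf_le_right))
        (fun h hh => ?_) inf_le_right hK5 hk fun h hh => ⟨?_, ?_⟩
      · rw [Subgroup.mem_normalizer_iff]
        intro y
        exact and_congr (by simp) (Subgroup.mem_normalizer_iff.1 (hHK hh) y)
      · show f (h * k * h⁻¹ * k⁻¹) = 1
        rw [map_mul, map_mul, map_mul, map_inv, map_inv,
          Subgroup.mem_centralizer_iff.1 hcen (f h) ⟨h, hh, rfl⟩, mul_inv_cancel_right, mul_inv_cancel]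
      · exact K.mul_mem ((Subgroup.mem_normalizer_iff.1 (hHK hh) k).1 hk) (K.inv_mem hk)
    exact hkm.1

theorem Cond.subgroupOf {H S : Subgroup G} (hc : Cond p H) (hHS : H ≤ S) :
    Cond p (H.subgroupOf S) := by
  intro g
  obtain ⟨K, hK1, hK2, hK3, hK4, hK5⟩ := hc g
  have hg : cj (g : G) H ≤ S := fun x hx => by
    have h1 := hHS (mem_cj.1 hx)
    have h2 := mul_mem (mul_mem g.2 h1) (inv_mem g.2)
    simpa [mul_assoc] using h2
  have hcj : cj g (H.subgroupOf S) = (cj (g : G) H).subgroupOf S := by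
    ext x
    rw [mem_cj, Subgroup.mem_subgroupOf, Subgroup.mem_subgroupOf, mem_cj]
    push_cast
    rfl
  have hKS : K ≤ S := hK1.trans (sup_le hHS hg)
  rw [hcj, ← Subgroup.subgroupOf_sup hHS hg]
  refine ⟨K.subgroupOf S, fun x hx => hK1 hx, ?_, fun x hx => ?_, ?_, ?_⟩
  · rwa [Nat.card_congr (Subgroup.subgroupOfEquivOfLe hKS).toEquiv]
  · rw [Subgroup.mem_normalizer_iff]
    intro y
    exact Subgroup.mem_normalizer_iff.1 (hK3 hx) (y : G)
  · rw [← Subgroup.subgroupOf_sup hKS hHS]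
    exact fun x hx => hK4 hx
  · refine (Subgroup.eq_bot_iff_forall _).2 fun x hx => Subtype.ext ?_
    have h1 : (x : G) ∈ K ⊓ Subgroup.centralizer (H : Set G) :=
      ⟨hx.1, Subgroup.mem_centralizer_iff.2 fun h hh =>
        congrArg Subtype.val (Subgroup.mem_centralizer_iff.1 hx.2 ⟨h, hHS hh⟩ hh)⟩
    rwa [hK5, Subgroup.mem_bot] at h1

theorem isPGroup_subgroupOf {H S : Subgroup G} (hH : IsPGroup p H) (hHS : H ≤ S) :
    IsPGroup p (H.subgroupOf S) :=
  hH.of_equiv (Subgroup.subgroupOfEquivOfLe hHS).symm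

/-! ### Consequences -/

/-- A conjugate of an element of `H` lying in the normaliser lies in `H`. -/
theorem conj_mem_of_normalizer [Finite G] [Fact p.Prime] {H : Subgroup G} (hH : IsPGroup p H)
    (hc : Cond p H) {t g : G} (ht : t ∈ H)
    (hn : g * t * g⁻¹ ∈ Subgroup.normalizer (H : Set G)) : g * t * g⁻¹ ∈ H := by
  obtain ⟨K, -, hK2, hK3, hK4, hK5⟩ := hc g
  have hHK : H ≤ Subgroup.normalizer (K : Set G) := le_sup_left.trans hK3
  obtain ⟨k, hk, h, hh, e⟩ := exists_mul_of_mem_sup hHK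
    (hK4 (show g * t * g⁻¹ ∈ cj g H from mem_cj.2 (by simpa [mul_assoc] using ht)))
  have hkn : k ∈ Subgroup.normalizer (H : Set G) := by
    have : k = g * t * g⁻¹ * h⁻¹ := by rw [e, mul_inv_cancel_right]
    rw [this]
    exact mul_mem hn (Subgroup.le_normalizer (inv_mem hh))
  have hk1 : k ∈ K ⊓ Subgroup.centralizer (H : Set G) := by
    refine ⟨hk, Subgroup.mem_centralizer_iff.2 fun a ha => ?_⟩
    have h1 : k * a * k⁻¹ * a⁻¹ = 1 := by
      refine eq_one_of_mem hH hK2 (mul_mem ((Subgroup.mem_normalizer_iff.1 hkn a).1 ha) (inv_mem ha)) ?_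
      have h3 := (Subgroup.mem_normalizer_iff.1 (hHK ha) k⁻¹).1 (inv_mem hk)
      simpa [mul_assoc] using mul_mem hk h3
    calc a * k = (k * a * k⁻¹ * a⁻¹) * (a * k) := by rw [h1, one_mul]
      _ = k * a := by group
  rw [hK5, Subgroup.mem_bot] at hk1
  rw [e, hk1, one_mul]
  exact hh

theorem cj_eq_of_le_normalizer [Finite G] [Fact p.Prime] {H : Subgroup G} (hH : IsPGroup p H)
    (hc : Cond p H) {g : G} (h : cj g H ≤ Subgroup.normalizer (H : Set G)) : cj g H = H := by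
  refine eq_of_cj_le fun x hx => ?_
  have h1 := mem_cj.1 hx
  have h2 := conj_mem_of_normalizer hH hc h1 (g := g) (by simpa [mul_assoc] using h hx)
  simpa [mul_assoc] using h2

/-- A `p`-group containing `H` normalises it. -/
theorem le_normalizer_of_le [Finite G] [Fact p.Prime] {H P : Subgroup G} (hH : IsPGroup p H)
    (hc : Cond p H) (hP : IsPGroup p P) (hle : H ≤ P) : P ≤ Subgroup.normalizer (H : Set G) := by
  haveI := hP.isNilpotent
  by_contra hne
  set Q := (Subgroup.normalizer (H : Set G)).subgroupOf P with hQ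
  have hQlt : Q < ⊤ := lt_of_le_of_ne le_top fun h => hne fun x hx => by
    have h2 : (⟨x, hx⟩ : P) ∈ Q := h ▸ Subgroup.mem_top _
    exact h2
  obtain ⟨x, hx, hxQ⟩ := SetLike.exists_of_lt (Group.normalizerCondition_of_isNilpotent Q hQlt)
  refine hxQ (cj_eq_self_iff.1 (cj_eq_of_le_normalizer hH hc fun y hy => ?_))
  have h1 := mem_cj.1 hy
  have hyQ : (⟨_, hle h1⟩ : P) ∈ Q := Subgroup.le_normalizer h1
  have h2 := (Subgroup.mem_normalizer_iff.1 hx _).1 hyQ
  have h3 : (x : G) * ((x : G)⁻¹ * y * (x : G)) * (x : G)⁻¹ ∈ Subgroup.normalizer (H : Set G) := h2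
  simpa [mul_assoc] using h3

/-- An extremely closed abelian `p`-subgroup satisfies the condition. -/
theorem cond_of_extremelyClosed [Finite G] [Fact p.Prime] {H : Subgroup G}
    (hP : IsPGroup p H) (hab : ∀ a ∈ H, ∀ b ∈ H, a * b = b * a)
    (hcl : Cfsg.IsExtremelyClosed H) : Cond p H := by
  classical
  intro g
  set L := H ⊔ cj g H with hL
  have hHL : H ≤ L := le_sup_left
  have hn : ∀ x ∈ L, x ∈ Subgroup.normalizer (H : Set G) → x ∈ H := fun x hx hx' => by
    have h1 : x ∈ L ⊓ Subgroup.normalizer (H : Set G) := ⟨hx, hx'⟩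
    rwa [hL, show (H ⊔ cj g H) ⊓ Subgroup.normalizer (H : Set G) = H from hcl g] at h1
  set H' := H.subgroupOf L with hH'
  have hself : Subgroup.normalizer (H' : Set L) ≤ H' := by
    intro x hx
    refine hn x x.2 (Subgroup.mem_normalizer_iff.2 fun y => ?_)
    constructor
    · intro hy
      exact (Subgroup.mem_normalizer_iff.1 hx ⟨y, hHL hy⟩).1 hy
    · intro hy
      have hyL : y ∈ L := by
        have h2 := mul_mem (mul_mem (inv_mem x.2) (hHL hy)) x.2
        simpa [mul_assoc] using h2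
      exact (Subgroup.mem_normalizer_iff.1 hx ⟨y, hyL⟩).2 hy
  obtain ⟨P, hPle⟩ := (isPGroup_subgroupOf hP hHL).exists_le_sylow
  have hPeq : (P : Subgroup L) = H' := by
    refine le_antisymm ?_ hPle
    by_contra hne
    haveI := P.2.isNilpotent
    set Q := H'.subgroupOf (P : Subgroup L) with hQ
    have hQlt : Q < ⊤ := lt_of_le_of_ne le_top fun h => hne fun x hx => by
      have h2 : (⟨x, hx⟩ : (P : Subgroup L)) ∈ Q := h ▸ Subgroup.mem_top _
      exact h2
    obtain ⟨x, hx, hxQ⟩ := SetLike.exists_of_lt (Group.normalizerCondition_of_isNilpotent Q hQlt)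
    refine hxQ (hself (Subgroup.mem_normalizer_iff.2 fun y => ?_))
    constructor
    · intro hy
      exact (Subgroup.mem_normalizer_iff.1 hx ⟨y, hPle hy⟩).1 hy
    · intro hy
      have hyP : y ∈ (P : Subgroup L) := by
        have h2 := mul_mem (mul_mem (inv_mem x.2) (hPle hy)) x.2
        simpa [mul_assoc] using h2
      exact (Subgroup.mem_normalizer_iff.1 hx ⟨y, hyP⟩).2 hy
  have hburn : Subgroup.normalizer ((P : Subgroup L) : Set L) ≤
      Subgroup.centralizer ((P : Subgroup L) : Set L) := by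
    rw [hPeq]
    intro x hx
    exact Subgroup.mem_centralizer_iff.2 fun y hy => Subtype.ext (hab y hy x (hself hx))
  have hcomp := MonoidHom.ker_transferSylow_isComplement' P hburn
  set K := (MonoidHom.transferSylow P hburn).ker with hK
  have hKc : Nat.card K * Nat.card (P : Subgroup L) = Nat.card L := hcomp.card_mul_card
  have hKp : (Nat.card K).Coprime p := by
    refine Nat.Coprime.symm ((Nat.Prime.coprime_iff_not_dvd Fact.out).2 fun h2 => ?_)
    have h3 := P.not_dvd_index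
    rw [← (P : Subgroup L).card_mul_index, mul_comm (Nat.card K)] at hKc
    exact h3 (Nat.eq_of_mul_eq_mul_left Nat.card_pos hKc ▸ h2)
  refine ⟨K.map L.subtype, Subgroup.map_subtype_le _,
    hKp.coprime_dvd_left (Subgroup.card_map_dvd K _), ?_, ?_, ?_⟩
  · have h := Subgroup.le_normalizer_map (H := K) L.subtype
    rwa [Subgroup.normalizer_eq_top, ← MonoidHom.range_eq_map, Subgroup.range_subtype] at h
  · intro x hx
    obtain ⟨⟨k, q⟩, hkq, -⟩ :=
      Subgroup.isComplement'_def.1 hcomp |>.existsUnique ⟨x, le_sup_right (a := H) hx⟩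
    have hq : (q : L) ∈ H' := hPeq ▸ q.2
    rw [show x = ((k : L) : G) * ((q : L) : G) from (congrArg Subtype.val hkq).symm]
    exact Subgroup.mul_mem_sup ⟨k, k.2, rfl⟩ hq
  · refine (Subgroup.eq_bot_iff_forall _).2 fun x hx => ?_
    refine eq_one_of_mem hP (hKp.coprime_dvd_left (Subgroup.card_map_dvd K _))
      (hn x (Subgroup.map_subtype_le _ hx.1) ?_) hx.1
    rw [Subgroup.mem_normalizer_iff]
    intro y
    constructor
    · intro hy
      rwa [← Subgroup.mem_centralizer_iff.1 hx.2 y hy, mul_inv_cancel_right]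
    · intro hy
      have h2 := Subgroup.mem_centralizer_iff.1 hx.2 _ hy
      have h3 : x * y * x⁻¹ = y := by
        calc x * y * x⁻¹ = x⁻¹ * (x * (x * y * x⁻¹)) := by group
          _ = x⁻¹ * (x * y * x⁻¹ * x) := by rw [h2]
          _ = y := by group
      exact h3 ▸ hy

end H31.EXO
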