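import Cfsg.Agent.H31.ExtOdd.Equation
import Cfsg.Agent.H73.KSeq
import Cfsg.Agent.H12.Integral
import Mathlib.GroupTheory.FiniteAbelian.Duality

/-!
A minimal counterexample does not exist.
-/

set_option autoImplicit false
set_option linter.style.haveILetI false
set_option linter.unusedSectionVars false

open Cfsg
open scoped ComplexConjugate

namespace H31.EXO

open H70 H68.EC

universe u

variable {G : Type u} [Group G] [Fintype G] {p : ℕ} [Fact p.Prime] {M : Ideal AlgInt} [M.IsPrime]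
  {H : Subgroup G} [Fintype H]

theorem mlt_one_spec (χ : IrrCharacter G) :
    ∑ k : H, (χ : G → ℂ) k = (Nat.card H : ℂ) * mlt χ (1 : H →* ℂˣ) := by
  rw [← mlt_spec]
  simp

theorem sum_const_off (F : H → ℂ) (f : ℂ) (hF : ∀ k : H, k ≠ 1 → F k = f) :
    ∑ k : H, F k = F 1 + ((Nat.card H : ℂ) - 1) * f := by
  classical
  rw [← Finset.add_sum_erase _ _ (Finset.mem_univ (1 : H)),
    Finset.sum_congr rfl fun k hk => hF k (Finset.ne_of_mem_erase hk), Finset.sum_const,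
    Finset.card_erase_of_mem (Finset.mem_univ _), Finset.card_univ, nsmul_eq_mul,
    Nat.card_eq_fintype_card, Nat.cast_sub Fintype.card_pos]
  simp

namespace Setup

variable (S : Setup p H)
include S

theorem irr_eq_one_of_const (χ : IrrCharacter G) (h : ∀ k ∈ H, (χ : G → ℂ) k = (χ : G → ℂ) 1) :
    χ = H12.oneIrr G := by
  by_contra hne
  haveI := H12.charKer_normal (H12.isCharacter_irr χ)
  have htop := S.eq_top_of_normal (H12.charKer _ (H12.isCharacter_irr χ)) h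
  have hsum : ∑ x : G, (χ : G → ℂ) x = 0 := by
    have h1 := H12.classInner_irr_ne hne
    simpa [H12.classInner_def, H12.oneIrr_apply, H12.card_ne_zero'] using h1
  rw [Finset.sum_congr rfl fun x _ =>
    (show (χ : G → ℂ) x = (χ : G → ℂ) 1 from (htop.symm ▸ Subgroup.mem_top x :
      x ∈ H12.charKer _ (H12.isCharacter_irr χ))), Finset.sum_const, Finset.card_univ,
    nsmul_eq_mul] at hsum
  exact mul_ne_zero (Nat.cast_ne_zero.2 Fintype.card_ne_zero) (H12.irr_apply_one_ne_zero χ) hsum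

theorem three_le_card : 3 ≤ Nat.card H := by
  obtain ⟨t, ht, ht1⟩ := S.exists_ne_one
  have hp3 : 3 ≤ p := by
    have := (Fact.out : p.Prime).two_le
    have := S.odd
    omega
  refine le_trans ?_ (Nat.le_of_dvd Nat.card_pos
    ((S.dvd_orderOf ht ht1).trans (Subgroup.orderOf_dvd_natCard H ht)))
  exact hp3

theorem eq_const (hM : IsPModular p M) (χ : IrrCharacter G)
    (hχ : χ ∈ H22.blockFinset (principalBlock M G)) (hm : mlt χ (1 : H →* ℂˣ) ≠ 0)
    (a b : H) (ha : a ≠ 1) (hb : b ≠ 1) : (χ : G → ℂ) a = (χ : G → ℂ) b := by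
  simpa using S.twisted_const hM compatible_one a b (by simpa using ha) (by simpa using hb) χ hχ hm

theorem vanish_fixed (hM : IsPModular p M) (hF : Fixed p H) (χ : IrrCharacter G)
    (hχ : χ ∈ H22.blockFinset (principalBlock M G)) (hne : χ ≠ H12.oneIrr G)
    (hm : mlt χ (1 : H →* ℂˣ) ≠ 0) {v : G} (hv : v ∈ H) (hv1 : v ≠ 1) :
    (χ : G → ℂ) v = 0 := by
  classical
  set v' : H := ⟨v, hv⟩ with hv'
  have hv'1 : v' ≠ 1 := fun h => hv1 (congrArg Subtype.val h)
  have hconst : ∀ k : H, k ≠ 1 → (χ : G → ℂ) k = (χ : G → ℂ) v := fun k hk =>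
    S.eq_const hM χ hχ hm k v' hk hv'1
  letI : CommGroup H :=
    { (inferInstance : Group H) with mul_comm := fun a b => Subtype.ext (S.comm a a.2 b b.2) }
  haveI : NeZero ((Monoid.exponent H : ℕ) : ℂ) :=
    ⟨Nat.cast_ne_zero.2 Monoid.exponent_ne_zero_of_finite⟩
  obtain ⟨l, hl⟩ := CommGroup.exists_apply_ne_one_of_hasEnoughRootsOfUnity H ℂ hv'1
  have hsum0 : ∑ k : H, ((l k : ℂ))⁻¹ = 0 := by
    have h1 : (Units.coeHom ℂ).comp (l : H →* ℂˣ)⁻¹ ≠ 1 := by
      intro h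
      apply hl
      have h2 := DFunLike.congr_fun h v'
      simp only [MonoidHom.comp_apply, Units.coeHom_apply, MonoidHom.inv_apply, MonoidHom.one_apply,
        Units.val_eq_one, inv_eq_one] at h2
      exact h2
    rw [← sum_hom_units_eq_zero _ h1]
    exact Finset.sum_congr rfl fun k _ => by simp
  set f := (χ : G → ℂ) v with hf
  have hspec : (Nat.card H : ℂ) * (mlt χ l : ℂ) = (χ : G → ℂ) 1 - f := by
    rw [← mlt_spec]
    have e : ∀ k : H, ((l k : ℂ))⁻¹ * (χ : G → ℂ) k =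
        ((l k : ℂ))⁻¹ * f + if k = 1 then (χ : G → ℂ) 1 - f else 0 := by
      intro k
      split_ifs with hk
      · subst hk
        simp
      · rw [hconst k hk, add_zero]
    rw [Finset.sum_congr rfl fun k _ => e k, Finset.sum_add_distrib, ← Finset.sum_mul, hsum0,
      zero_mul, zero_add, Finset.sum_ite_eq' Finset.univ, if_pos (Finset.mem_univ _)]
  rcases eq_or_ne (mlt χ l) 0 with hl0 | hl0
  · refine absurd (S.irr_eq_one_of_const χ fun k hk => ?_) hne
    rw [hl0, Nat.cast_zero, mul_zero] at hspec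
    rcases eq_or_ne k 1 with rfl | hk1
    · rfl
    · rw [hconst ⟨k, hk⟩ (fun h => hk1 (congrArg Subtype.val h))]
      exact (sub_eq_zero.1 hspec.symm).symm
  · have hv2 : v' * v' ≠ 1 := by
      intro h
      refine hv'1 (Subtype.ext ?_)
      refine eq_one_of_coprime S.isP (n := 2) ?_ hv ?_
      · exact Nat.coprime_two_left.2 ((Fact.out : p.Prime).odd_of_ne_two S.odd)
      · rw [pow_two]
        exact congrArg Subtype.val h
    have h1 := S.twisted_const hM (compatible_of_fixed S.isP hF l) v' (v' * v') (by simpa using hv'1)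
      (fun h => hv2 (Subtype.ext h)) χ hχ hl0
    rw [hconst v' hv'1, hconst (v' * v') hv2, map_mul, Units.val_mul, mul_inv, mul_assoc] at h1
    have hlne : ((l v' : ℂ))⁻¹ ≠ 0 := inv_ne_zero (Units.ne_zero _)
    have h2 : (1 - ((l v' : ℂ))⁻¹) * f = 0 := by
      refine (mul_eq_zero.1 (show ((l v' : ℂ))⁻¹ * ((1 - ((l v' : ℂ))⁻¹) * f) = 0 by
        linear_combination h1)).resolve_left hlne
    refine (mul_eq_zero.1 h2).resolve_left fun h => hl ?_
    have h3 := (sub_eq_zero.1 h).symm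
    rw [inv_eq_one] at h3
    exact Units.ext h3

theorem vanish_generating (hM : IsPModular p M) {g h : G} (htop : H ⊔ cj g H ⊔ cj h H = ⊤)
    (χ : IrrCharacter G) (hχ : χ ∈ H22.blockFinset (principalBlock M G))
    (hne : χ ≠ H12.oneIrr G) (hm : mlt χ (1 : H →* ℂˣ) ≠ 0) {v : G} (hv : v ∈ H) (hv1 : v ≠ 1) :
    (χ : G → ℂ) v = 0 := by
  classical
  set B := H22.blockFinset (principalBlock M G) with hB
  set v' : H := ⟨v, hv⟩ with hv'
  have hv'1 : v' ≠ 1 := fun h => hv1 (congrArg Subtype.val h)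
  have hs3 := S.three_le_card
  set s : ℝ := (Nat.card H : ℝ) with hs
  have hs3' : (3 : ℝ) ≤ s := by rw [hs]; exact_mod_cast hs3
  let d : IrrCharacter G → ℝ := fun ψ => (H12.degree (ψ : G → ℂ) : ℝ)
  let m : IrrCharacter G → ℝ := fun ψ => (mlt ψ (1 : H →* ℂˣ) : ℝ)
  have hd : ∀ ψ, 0 < d ψ := fun ψ => Nat.cast_pos.2 (H12.irr_degree_pos ψ)
  have hint : ∀ ψ : IrrCharacter G, ∃ z : ℤ, ψ ∈ B →
      (mlt ψ (1 : H →* ℂˣ) = 0 → z = 0) ∧
      (mlt ψ (1 : H →* ℂˣ) ≠ 0 → ∀ k : H, k ≠ 1 → (ψ : G → ℂ) k = (z : ℂ)) := by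
    intro ψ
    by_cases hψ : ψ ∈ B ∧ mlt ψ (1 : H →* ℂˣ) ≠ 0
    swap
    · exact ⟨0, fun hψB => ⟨fun _ => rfl, fun h => absurd ⟨hψB, h⟩ hψ⟩⟩
    have hconst : ∀ k : H, k ≠ 1 → (ψ : G → ℂ) k = (ψ : G → ℂ) v := fun k hk =>
      S.eq_const hM ψ hψ.1 hψ.2 k v' hk hv'1
    have h1 := (mlt_one_spec (H := H) ψ).symm.trans
      (sum_const_off (fun k : H => (ψ : G → ℂ) k) _ hconst)
    simp only [OneMemClass.coe_one, H12.irr_apply_one] at h1
    let q : ℚ := ((Nat.card H : ℚ) * (mlt ψ (1 : H →* ℂˣ) : ℚ) - (H12.degree (ψ : G → ℂ) : ℚ)) /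
      ((Nat.card H : ℚ) - 1)
    have hq : (ψ : G → ℂ) v = (q : ℂ) := by
      have hne1 : ((Nat.card H : ℂ) - 1) ≠ 0 :=
        sub_ne_zero.2 (by exact_mod_cast (show Nat.card H ≠ 1 by omega))
      simp only [q]
      push_cast
      rw [eq_div_iff hne1]
      linear_combination -h1
    obtain ⟨z, hz⟩ := H12.exists_int_of_isIntegral_rat (q := q)
      (hq ▸ H12.IsCharacter.isIntegral (H12.isCharacter_irr ψ) v)
    refine ⟨z, fun _ => ⟨fun h => absurd h hψ.2, fun _ k hk => ?_⟩⟩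
    rw [hconst k hk, hq, ← hz]
    push_cast
    rfl
  choose z hz using hint
  let F : IrrCharacter G → ℝ := fun ψ => (z ψ : ℝ)
  have hone : H12.oneIrr G ∈ B := H22.mem_blockFinset.2 (H20.mem_blockOf_self (H12.oneIrr G))
  have hm1 : mlt (H12.oneIrr G) (1 : H →* ℂˣ) = 1 := by
    have h1 := mlt_one_spec (H := H) (H12.oneIrr G)
    simp only [H12.oneIrr_apply, Finset.sum_const, Finset.card_univ, nsmul_eq_mul, mul_one] at h1
    rw [← Nat.card_eq_fintype_card] at h1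
    have h2 : (1 : ℂ) = (mlt (H12.oneIrr G) (1 : H →* ℂˣ) : ℂ) :=
      mul_left_cancel₀ (Nat.cast_ne_zero.2 (Nat.card_pos (α := H)).ne') (by rw [mul_one]; exact h1)
    exact_mod_cast h2.symm
  have hz1 : z (H12.oneIrr G) = 1 := by
    have h1 := (hz _ hone).2 (by rw [hm1]; exact one_ne_zero) v' hv'1
    rw [H12.oneIrr_apply] at h1
    exact_mod_cast h1.symm
  have hd1 : d (H12.oneIrr G) = 1 := by
    have h1 := H12.irr_apply_one (H12.oneIrr G)
    rw [H12.oneIrr_apply] at h1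
    simp only [d]
    exact_mod_cast h1.symm
  have hsm : ∀ ψ ∈ B, mlt ψ (1 : H →* ℂˣ) ≠ 0 → s * m ψ = d ψ + (s - 1) * F ψ := by
    intro ψ hψ hψm
    have h1 := (mlt_one_spec (H := H) ψ).symm.trans
      (sum_const_off (fun k : H => (ψ : G → ℂ) k) _ ((hz ψ hψ).2 hψm))
    simp only [OneMemClass.coe_one, H12.irr_apply_one] at h1
    apply Complex.ofReal_injective
    simp only [hs, m, d, F]
    push_cast
    exact h1
  have hval : ∀ ψ ∈ B, (mlt ψ (1 : H →* ℂˣ) : ℂ) * (ψ : G → ℂ) v =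
      (mlt ψ (1 : H →* ℂˣ) : ℂ) * (z ψ : ℂ) := by
    intro ψ hψ
    rcases eq_or_ne (mlt ψ (1 : H →* ℂˣ)) 0 with h0 | h0
    · rw [h0, Nat.cast_zero, zero_mul, zero_mul]
    · rw [← (hz ψ hψ).2 h0 v' hv'1]
  -- the equation
  have hEq : ∑ ψ ∈ B, m ψ * (F ψ - F ψ * F ψ / d ψ) = 0 := by
    have h1 := S.equation hM (l := 1) compatible_one v' hv hv1
    rw [MonoidHom.one_apply, Units.val_one, one_mul] at h1
    apply Complex.ofReal_injective
    simp only [m, F, d]
    push_cast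
    have e1 : rSum M (1 : H →* ℂˣ) v = ∑ ψ ∈ B, (mlt ψ (1 : H →* ℂˣ) : ℂ) * (z ψ : ℂ) :=
      Finset.sum_congr rfl hval
    have e2 : tSum M (1 : H →* ℂˣ) v v = ∑ ψ ∈ B,
        (mlt ψ (1 : H →* ℂˣ) : ℂ) * ((z ψ : ℂ) * (z ψ : ℂ) / (H12.degree (ψ : G → ℂ) : ℂ)) := by
      refine Finset.sum_congr rfl fun ψ hψ => ?_
      rw [H12.irr_apply_one]
      calc (mlt ψ (1 : H →* ℂˣ) : ℂ) / (H12.degree (ψ : G → ℂ) : ℂ) *
            ((ψ : G → ℂ) v * (ψ : G → ℂ) v)
          = ((mlt ψ (1 : H →* ℂˣ) : ℂ) * (ψ : G → ℂ) v) * (ψ : G → ℂ) v /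
              (H12.degree (ψ : G → ℂ) : ℂ) := by ring
        _ = ((mlt ψ (1 : H →* ℂˣ) : ℂ) * (ψ : G → ℂ) v) * (z ψ : ℂ) /
              (H12.degree (ψ : G → ℂ) : ℂ) := by
            rw [hval ψ hψ, mul_right_comm, hval ψ hψ, mul_right_comm]
        _ = _ := by rw [hval ψ hψ]; ring
    rw [show ((v' : H) : G) = v from rfl, e1, e2] at h1
    simp only [mul_sub]
    rw [Finset.sum_sub_distrib, h1, sub_self]
  -- weak orthogonality
  have hweak : 0 ≤ ∑ ψ ∈ B, d ψ * F ψ := by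
    have hpt : ∀ k : H, k ≠ 1 → ∑ ψ ∈ B, (ψ : G → ℂ) 1 * (ψ : G → ℂ) (k : G) = 0 :=
      fun k hk => S.weak_at hM (by rw [orderOf_one]; exact (Fact.out : p.Prime).not_dvd_one)
        k.2 (fun h => hk (Subtype.ext h))
    have h1 : ∑ ψ ∈ B, ((ψ : G → ℂ) 1) *
        ((Nat.card H : ℂ) * (mlt ψ (1 : H →* ℂˣ) : ℂ) - (ψ : G → ℂ) 1) = 0 := by
      have e : ∀ ψ : IrrCharacter G, (Nat.card H : ℂ) * (mlt ψ (1 : H →* ℂˣ) : ℂ) - (ψ : G → ℂ) 1 =
          ∑ k ∈ Finset.univ.erase (1 : H), (ψ : G → ℂ) k := fun ψ => by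
        rw [← mlt_one_spec, Finset.sum_erase_eq_sub (Finset.mem_univ _)]
        rfl
      simp only [e, Finset.mul_sum]
      rw [Finset.sum_comm]
      exact Finset.sum_eq_zero fun k hk => hpt k (Finset.ne_of_mem_erase hk)
    have h2 : ∑ ψ ∈ B, d ψ * (s * m ψ - d ψ) = 0 := by
      apply Complex.ofReal_injective
      simp only [hs, m, d]
      push_cast
      simp only [H12.irr_apply_one] at h1
      exact h1
    have h3 : 0 ≤ (s - 1) * ∑ ψ ∈ B, d ψ * F ψ := by
      rw [← h2, Finset.mul_sum]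
      refine Finset.sum_le_sum fun ψ hψ => ?_
      rcases eq_or_ne (mlt ψ (1 : H →* ℂˣ)) 0 with h0 | h0
      · have hF0 : F ψ = 0 := by simp [F, (hz ψ hψ).1 h0]
        have hm0 : m ψ = 0 := by simp [m, h0]
        rw [hF0, hm0]
        nlinarith [hd ψ]
      · rw [hsm ψ hψ h0]
        exact le_of_eq (by ring)
    exact nonneg_of_mul_nonneg_right h3 (by linarith)
  -- the weights
  let t : IrrCharacter G → ℝ := fun ψ =>
    d ψ * F ψ + ((s - 2) * (F ψ * F ψ) - (s - 1) * (F ψ * F ψ * F ψ) / d ψ)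
  let w : IrrCharacter G → ℝ := fun ψ =>
    (2 * s / 3 - 1) * (F ψ * F ψ) - (s - 1) * (F ψ * F ψ * F ψ) / d ψ
  have ht : ∀ ψ ∈ B, t ψ = s * (m ψ * (F ψ - F ψ * F ψ / d ψ)) := by
    intro ψ hψ
    rcases eq_or_ne (mlt ψ (1 : H →* ℂˣ)) 0 with h0 | h0
    · have hF0 : F ψ = 0 := by simp [F, (hz ψ hψ).1 h0]
      simp [t, hF0]
    · rw [← mul_assoc, hsm ψ hψ h0]
      have := (hd ψ).ne'
      simp only [t]
      field_simp
      ring
  have htsum : ∑ ψ ∈ B, t ψ = 0 := by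
    rw [Finset.sum_congr rfl ht, ← Finset.mul_sum, hEq, mul_zero]
  have ht1 : t (H12.oneIrr G) = 0 := by
    have hF1 : F (H12.oneIrr G) = 1 := by simp [F, hz1]
    simp [t, hF1, hd1]
    norm_num
  set B' := B.erase (H12.oneIrr G) with hB'
  have htsum' : ∑ ψ ∈ B', t ψ = 0 := by
    rw [hB', Finset.sum_erase _ ht1, htsum]
  have hdF' : -1 ≤ ∑ ψ ∈ B', d ψ * F ψ := by
    rw [← Finset.add_sum_erase B _ hone, ← hB', hd1] at hweak
    have hF1 : F (H12.oneIrr G) = 1 := by simp [F, hz1]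
    rw [hF1] at hweak
    linarith
  have hw : ∀ ψ ∈ B', 0 ≤ w ψ := by
    intro ψ hψ
    obtain ⟨hψ1, hψB⟩ := Finset.mem_erase.1 hψ
    rcases eq_or_ne (mlt ψ (1 : H →* ℂˣ)) 0 with h0 | h0
    · have hF0 : F ψ = 0 := by simp [F, (hz ψ hψB).1 h0]
      simp [w, hF0]
    obtain ⟨n, hn, hn3⟩ := exists_fixed_dim ψ hψ1 H htop
    rw [mlt_one_spec] at hn
    have hmn : mlt ψ (1 : H →* ℂˣ) = n := by
      exact_mod_cast mul_left_cancel₀ (Nat.cast_ne_zero.2 (Nat.card_pos (α := H)).ne') hn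
    have hn3' : 3 * m ψ ≤ 2 * d ψ := by
      simp only [m, d, hmn]
      exact_mod_cast hn3
    have hsm' := hsm ψ hψB h0
    have e : w ψ = F ψ * F ψ * (((2 * s - 3) * d ψ - 3 * (s - 1) * F ψ) / (3 * d ψ)) := by
      have := (hd ψ).ne'
      simp only [w]
      field_simp
    rw [e]
    refine mul_nonneg (mul_self_nonneg _) (div_nonneg ?_ (by linarith [hd ψ]))
    nlinarith [mul_le_mul_of_nonneg_left hn3' (show (0 : ℝ) ≤ s by linarith)]
  have hsplit : ∀ ψ, t ψ = d ψ * F ψ + w ψ + (s / 3 - 1) * (F ψ * F ψ) := fun ψ => by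
    simp only [t, w]
    ring
  have hnn : ∀ ψ ∈ B', 0 ≤ F ψ := by
    intro ψ hψ
    by_contra hlt
    push Not at hlt
    have hz1' : F ψ ≤ -1 := by
      simp only [F] at hlt ⊢
      have : z ψ < 0 := by exact_mod_cast hlt
      exact_mod_cast (show z ψ ≤ -1 by omega)
    have hwle : w ψ ≤ ∑ ξ ∈ B', w ξ := Finset.single_le_sum hw hψ
    have hsum2 : ∑ ξ ∈ B', (d ξ * F ξ) + ∑ ξ ∈ B', w ξ +
        (s / 3 - 1) * ∑ ξ ∈ B', F ξ * F ξ = 0 := by
      rw [Finset.mul_sum, ← Finset.sum_add_distrib, ← Finset.sum_add_distrib,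
        ← Finset.sum_congr rfl fun ξ _ => hsplit ξ, htsum']
    have hsq : 0 ≤ (s / 3 - 1) * ∑ ξ ∈ B', F ξ * F ξ :=
      mul_nonneg (by linarith) (Finset.sum_nonneg fun ξ _ => mul_self_nonneg _)
    have hw1 : 1 < w ψ := by
      have h1 : 1 ≤ F ψ * F ψ := by nlinarith
      have h2 : 0 < -((s - 1) * (F ψ * F ψ * F ψ) / d ψ) := by
        rw [neg_pos]
        refine div_neg_of_neg_of_pos (mul_neg_of_pos_of_neg (by linarith) ?_) (hd ψ)
        exact mul_neg_of_pos_of_neg (by linarith) hlt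
      have h3 : 2 * s / 3 - 1 ≤ (2 * s / 3 - 1) * (F ψ * F ψ) :=
        le_mul_of_one_le_right (by linarith) h1
      simp only [w]
      linarith
    linarith
  have hterm : ∀ ψ ∈ B', d ψ * F ψ ≤ t ψ := fun ψ hψ => by
    rw [hsplit]
    have := hw ψ hψ
    have h2 : 0 ≤ (s / 3 - 1) * (F ψ * F ψ) := mul_nonneg (by linarith) (mul_self_nonneg _)
    linarith
  have hzero : ∑ ψ ∈ B', d ψ * F ψ = 0 :=
    le_antisymm (htsum' ▸ Finset.sum_le_sum hterm)
      (Finset.sum_nonneg fun ψ hψ => mul_nonneg (hd ψ).le (hnn ψ hψ))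
  have h0 := (Finset.sum_eq_zero_iff_of_nonneg fun ψ hψ => mul_nonneg (hd ψ).le (hnn ψ hψ)).1 hzero χ
    (Finset.mem_erase.2 ⟨hne, hχ⟩)
  have hzχ : z χ = 0 := by
    have := (mul_eq_zero.1 h0).resolve_left (hd χ).ne'
    simp only [F] at this
    exact_mod_cast this
  rw [show v = (v' : G) from rfl, (hz χ hχ).2 hm v' hv'1, hzχ, Int.cast_zero]

/-- The weighted block sum is one. -/
theorem rSum_eq_one (hM : IsPModular p M) {v : G} (hv : v ∈ H) (hv1 : v ≠ 1) :
    rSum M (1 : H →* ℂˣ) v = 1 := by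
  classical
  have hone : H12.oneIrr G ∈ H22.blockFinset (principalBlock M G) :=
    H22.mem_blockFinset.2 (H20.mem_blockOf_self (H12.oneIrr G))
  rw [rSum, Finset.sum_eq_single_of_mem _ hone fun χ hχ hne => ?_]
  · have h1 := mlt_one_spec (H := H) (H12.oneIrr G)
    simp only [H12.oneIrr_apply, Finset.sum_const, Finset.card_univ, nsmul_eq_mul, mul_one] at h1
    rw [← Nat.card_eq_fintype_card] at h1
    have h2 : (1 : ℂ) = (mlt (H12.oneIrr G) (1 : H →* ℂˣ) : ℂ) :=
      mul_left_cancel₀ (Nat.cast_ne_zero.2 (Nat.card_pos (α := H)).ne') (by rw [mul_one]; exact h1)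
    rw [H12.oneIrr_apply, mul_one, ← h2]
  · rcases eq_or_ne (mlt χ (1 : H →* ℂˣ)) 0 with h0 | h0
    · rw [h0, Nat.cast_zero, zero_mul]
    rcases S.exists_generating_or_fixed with ⟨g, h, htop⟩ | hF
    · rw [S.vanish_generating hM htop χ hχ hne h0 hv hv1, mul_zero]
    · rw [S.vanish_fixed hM hF χ hχ hne h0 hv hv1, mul_zero]

open Classical in
/-- The number of conjugates in `H` times the block norm is the order of `H`. -/
theorem count_eq (hM : IsPModular p M) {v : G} (hv : v ∈ H) (hv1 : v ≠ 1) :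
    (Finset.univ.filter fun k : H => IsConj v (k : G)).card * cz M v = Nat.card H := by
  obtain ⟨j, hj⟩ := IsPGroup.iff_orderOf.mp S.isP ⟨v, hv⟩
  rw [Subgroup.orderOf_mk] at hj
  have hord : ∀ k : H, ∃ i : ℕ, orderOf (k : G) = p ^ i := fun k => by
    obtain ⟨i, hi⟩ := IsPGroup.iff_orderOf.mp S.isP k
    exact ⟨i, by rw [Subgroup.orderOf_coe]; exact hi⟩
  have h1 : ∑ k : H, ∑ χ ∈ H22.blockFinset (principalBlock M G),
      (χ : G → ℂ) k * conj ((χ : G → ℂ) v) = (Nat.card H : ℂ) := by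
    rw [Finset.sum_comm]
    simp only [← Finset.sum_mul, mlt_one_spec, ← H12.irr_inv, mul_assoc, ← Finset.mul_sum]
    rw [show ∑ χ ∈ H22.blockFinset (principalBlock M G),
      (mlt χ (1 : H →* ℂˣ) : ℂ) * (χ : G → ℂ) v⁻¹ = 1 from
        S.rSum_eq_one hM (inv_mem hv) (by simpa using hv1), mul_one]
  have h2 : ∀ k : H, ∑ χ ∈ H22.blockFinset (principalBlock M G),
      (χ : G → ℂ) k * conj ((χ : G → ℂ) v) = if IsConj v (k : G) then (cz M v : ℂ) else 0 :=
    fun k => by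
    have h := H11.column_pair hM (u := v) (v := (k : G)) ⟨j, hj⟩ (hord k)
    rw [H22.finsum_mem_block] at h
    exact h
  rw [Finset.sum_congr rfl fun k _ => h2 k, ← Finset.sum_filter, Finset.sum_const,
    nsmul_eq_mul] at h1
  exact_mod_cast h1

omit [Fintype H] in
/-- No minimal counterexample. -/
theorem false' : False := by
  classical
  haveI : Fintype H := Fintype.ofFinite _
  obtain ⟨M, hM⟩ := H20.exists_isPModular (Fact.out : p.Prime)
  haveI := hM.2.1.isPrime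
  obtain ⟨P, hHP⟩ := S.isP.exists_le_sylow
  set P' := (P : Subgroup G) with hP'
  have hPn : P' ≤ Subgroup.normalizer (H : Set G) := le_normalizer_of_le S.isP S.cond P.2 hHP
  haveI : (H.subgroupOf P').Normal := Subgroup.normal_subgroupOf_of_le_normalizer hPn
  have hbot : H.subgroupOf P' ≠ ⊥ := by
    intro h
    obtain ⟨t, ht, ht1⟩ := S.exists_ne_one
    have h1 : (⟨t, hHP ht⟩ : P') ∈ H.subgroupOf P' := ht
    rw [h, Subgroup.mem_bot] at h1
    exact ht1 (congrArg Subtype.val h1)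
  obtain ⟨⟨x, hx, hxc⟩, hxne⟩ : ∃ x : ↥(H.subgroupOf P' ⊓ Subgroup.center P'), x ≠ 1 := by
    haveI := (Subgroup.nontrivial_iff_ne_bot _).2 (H73.inf_center_ne_bot P.2 hbot)
    exact exists_ne 1
  have hxv1 : (x : G) ≠ 1 := fun h => hxne (Subtype.ext (Subtype.ext h))
  have hPc : P' ≤ Subgroup.centralizer ({(x : G)} : Set G) := fun y hy =>
    Subgroup.mem_centralizer_singleton_iff.2
      (congrArg Subtype.val (Subgroup.mem_center_iff.1 hxc ⟨y, hy⟩))
  have hcz : ∀ (v : G) (W : Subgroup G), IsPGroup p W → W ≤ Subgroup.centralizer ({v} : Set G) →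
      Nat.card W ≤ cz M v := by
    intro v W hW hWc
    haveI : Fintype ↥(Subgroup.centralizer ({v} : Set G)) := Fintype.ofFinite _
    have h := card_le_sum_sq hM (W.subgroupOf (Subgroup.centralizer {v}))
      (isPGroup_subgroupOf hW hWc)
    rwa [Nat.card_congr (Subgroup.subgroupOfEquivOfLe hWc).toEquiv] at h
  have hpos : ∀ v : G, v ∈ H → 0 < (Finset.univ.filter fun k : H => IsConj v (k : G)).card :=
    fun v hv => Finset.card_pos.2 ⟨⟨v, hv⟩, Finset.mem_filter.2 ⟨Finset.mem_univ _, IsConj.refl v⟩⟩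
  have hle : Nat.card P' ≤ Nat.card H := by
    rw [← S.count_eq hM hx hxv1]
    exact (hcz _ _ P.2 hPc).trans (Nat.le_mul_of_pos_left _ (hpos _ hx))
  have hPH : P' = H := (Subgroup.eq_of_le_of_card_ge hHP hle).symm
  -- the normaliser centralises `H`
  have hNC : Subgroup.normalizer (H : Set G) ≤ Subgroup.centralizer (H : Set G) := by
    intro n hn
    refine Subgroup.mem_centralizer_iff.2 fun v hv => ?_
    rcases eq_or_ne v 1 with rfl | hv1
    · rw [one_mul, mul_one]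
    have h1 := S.count_eq hM hv hv1
    have h2 : Nat.card H ≤ cz M v := hcz v H S.isP (S.le_cent hv)
    have hcard : (Finset.univ.filter fun k : H => IsConj v (k : G)).card ≤ 1 := by
      by_contra hlt
      push Not at hlt
      have := Nat.mul_le_mul hlt h2
      have := Nat.card_pos (α := H)
      omega
    have h3 := Finset.card_le_one.1 hcard ⟨v, hv⟩
      (Finset.mem_filter.2 ⟨Finset.mem_univ _, IsConj.refl v⟩)
      ⟨n * v * n⁻¹, (Subgroup.mem_normalizer_iff.1 hn v).1 hv⟩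
      (Finset.mem_filter.2 ⟨Finset.mem_univ _, isConj_iff.2 ⟨n, rfl⟩⟩)
    have h4 : v = n * v * n⁻¹ := congrArg Subtype.val h3
    exact eq_mul_inv_iff_mul_eq.1 h4
  have hburn : Subgroup.normalizer (P' : Set G) ≤ Subgroup.centralizer (P' : Set G) := by
    rwa [hPH]
  have hcomp := MonoidHom.ker_transferSylow_isComplement' P hburn
  set K := (MonoidHom.transferSylow P hburn).ker with hK
  have hKc : Nat.card K * Nat.card P' = Nat.card G := hcomp.card_mul_card
  have hKp : (Nat.card K).Coprime p := by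
    refine Nat.Coprime.symm ((Nat.Prime.coprime_iff_not_dvd Fact.out).2 fun h2 => ?_)
    have h3 := P.not_dvd_index
    rw [← P'.card_mul_index, mul_comm (Nat.card K)] at hKc
    exact h3 (Nat.eq_of_mul_eq_mul_left Nat.card_pos hKc ▸ h2)
  have hKbot : K = ⊥ := le_bot_iff.1 (S.core ▸ H1.le_pPrimeCore hKp)
  rw [hKbot, Subgroup.card_bot, one_mul] at hKc
  refine S.notNormal ?_
  rw [← hPH, Subgroup.eq_top_of_card_eq P' hKc]
  infer_instance

end Setup

end H31.EXO
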