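import Cfsg.Agent.H31.ExtOdd.Basic
import Cfsg.Agent.H12.CyclicCorr
import Cfsg.Agent.H15.HomogeneousMain

/-!
An abelian `p`-group `H` acting on a `p'`-group `O` such that the commutators of each element with
`H` lie in a subgroup without fixed points: the commutators of `O` with `H` generate a subgroup
without fixed points.
-/

set_option autoImplicit false
set_option linter.style.haveILetI false
set_option linter.unusedSectionVars false

open Cfsg

namespace H31.EXO

open H68.EC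

universe u

/-- The condition on the action. -/
def CondB {X : Type u} [Group X] (O H : Subgroup X) : Prop :=
  ∀ o ∈ O, ∃ K : Subgroup X, K ≤ O ∧ H ≤ Subgroup.normalizer (K : Set X) ∧
    K ⊓ Subgroup.centralizer (H : Set X) = ⊥ ∧ ∀ h ∈ H, h * o * h⁻¹ * o⁻¹ ∈ K

theorem eq_one_of_sq_pow {u : ℝ} {t : ℕ} (h0 : 0 < u) (ht : 0 < t) (h : u ^ 2 ^ t = u) : u = 1 := by
  have h2 : 1 < 2 ^ t := Nat.one_lt_two_pow ht.ne'
  have h1 : u ^ (2 ^ t - 1) * u = 1 * u := by
    rw [← pow_succ, Nat.sub_add_cancel h2.le, h, one_mul]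
  exact (pow_eq_one_iff_of_nonneg h0.le (by omega)).1 (mul_right_cancel₀ h0.ne' h1)

/-- Every invariant character of `O` is trivial on the commutators with `H`. -/
theorem fixed_irr_kernel {p : ℕ} [Fact p.Prime] (hp2 : p ≠ 2) : ∀ (n : ℕ) (X : Type u) [Group X]
    [Finite X], Nat.card X = n → ∀ O H : Subgroup X, O.Normal → O ⊔ H = ⊤ →
    (Nat.card O).Coprime p → IsPGroup p H → (∀ a ∈ H, ∀ b ∈ H, a * b = b * a) → CondB O H →
    ∀ θ : IrrCharacter O,
      (∀ s ∈ H, ∀ g g' : O, (g' : X) = s * g * s⁻¹ → (θ : O → ℂ) g' = (θ : O → ℂ) g) →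
      ∀ h ∈ H, ∀ o g : O, (g : X) = h * o * h⁻¹ * (o : X)⁻¹ →
        (θ : O → ℂ) g = (θ : O → ℂ) 1 := by
  intro n
  induction n using Nat.strong_induction_on with
  | _ n ih =>
  intro X _ _ hn O H hON htop hcop hH hab hc θ hinv
  subst hn
  classical
  haveI := Fintype.ofFinite X
  have hnorm : ∀ s ∈ H, ∀ g ∈ O, s * g * s⁻¹ ∈ O := fun s _ g hg => hON.conj_mem g hg s
  have hOH : ∀ x ∈ O, x ∈ H → x = 1 := fun x hxO hxH => eq_one_of_mem hH hcop hxH hxO
  have hcopH : (Nat.card O).Coprime (Nat.card H) := by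
    obtain ⟨k, hk⟩ := hH.exists_card_eq
    rw [hk]
    exact hcop.pow_right k
  have hzO : ∀ z ∈ H, (Nat.card O).Coprime (orderOf z) := fun z hz =>
    hcopH.coprime_dvd_right (Subgroup.orderOf_dvd_natCard H hz)
  obtain ⟨F, hF, hFdet⟩ := H12.Cyclic.exists_extension O H hnorm hcopH htop θ
    ((H12.Glauberman.inv_conjHom_iff O H hnorm _).2 hinv)
  have hF1 : (F : X → ℂ) 1 = (θ : O → ℂ) 1 := by rw [← hF 1]; rfl
  -- the values at an element of `H` which moves some element of `O`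
  have hkey : ∀ z ∈ H, (∃ o ∈ O, z * o ≠ o * z) → (F : X → ℂ) z ≠ 0 ∧
      ∀ K : Subgroup X, K ≤ O → H ≤ Subgroup.normalizer (K : Set X) →
        K ⊓ Subgroup.centralizer (H : Set X) = ⊥ → ∀ y ∈ K, Commute z y →
          (F : X → ℂ) (z * y) = (F : X → ℂ) z := by
    intro z hzH hmove
    -- the subgroup `O⟨z⟩`
    set Γ := O ⊔ Subgroup.zpowers z with hΓ
    have hOΓ : O ≤ Γ := le_sup_left
    have hzΓ : z ∈ Γ := le_sup_right (a := O) (Subgroup.mem_zpowers z)
    haveI hOn : (O.subgroupOf Γ).Normal := hON.subgroupOf Γ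
    set s : Γ := ⟨z, hzΓ⟩ with hs
    have hord : orderOf s = orderOf z := Subgroup.orderOf_mk _ _
    have hcop' : (Nat.card (O.subgroupOf Γ)).Coprime (orderOf s) := by
      rw [Nat.card_congr (Subgroup.subgroupOfEquivOfLe hOΓ).toEquiv, hord]
      exact hzO z hzH
    have htop' : O.subgroupOf Γ ⊔ Subgroup.zpowers s = ⊤ := by
      have h1 : Subgroup.zpowers s = (Subgroup.zpowers z).subgroupOf Γ := by
        apply Subgroup.map_injective Γ.subtype_injective
        rw [MonoidHom.map_zpowers, Subgroup.map_subgroupOf_eq_of_le le_sup_right]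
        rfl
      rw [h1, ← Subgroup.subgroupOf_sup hOΓ le_sup_right, Subgroup.subgroupOf_self]
    let φ : Γ → ℂ := fun g => (F : X → ℂ) g
    have hφc : IsCharacter Γ φ := H12.IsCharacter.res (H12.isCharacter_irr F) Γ
    have hθF : (fun o : O => (F : X → ℂ) o) = (θ : O → ℂ) := funext hF
    have hφirr : IsIrrCharacter Γ φ := H15.irr_of_resTo_irr hOΓ hφc (by
      show IsIrrCharacter O (fun o : O => (F : X → ℂ) o)
      rw [hθF]
      exact θ.2)
    have hφres : IsIrrCharacter (O.subgroupOf Γ) (fun g : O.subgroupOf Γ => φ g) := by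
      have h1 := (H12.irrCongr (Subgroup.subgroupOfEquivOfLe hOΓ) θ).2
      convert h1 using 1
      funext g
      exact hF ⟨_, g.2⟩
    have hφdet : (detOrder φ).Coprime (orderOf s) := by
      rw [hord]
      have h1 := (hFdet.coprime_dvd_right (Subgroup.orderOf_dvd_natCard H hzH))
      refine h1.coprime_dvd_left (orderOf_dvd_of_pow_eq_one (funext fun g => ?_))
      show (detChar φ g) ^ detOrder (F : X → ℂ) = 1
      rw [← H14.detChar_res Γ hφirr F.2 (fun _ => rfl) g]
      exact congrFun (pow_orderOf_eq_one (detChar (F : X → ℂ))) (g : X)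
    -- the smaller configuration
    set Y := O ⊓ Subgroup.centralizer {z} with hY
    have hHY : H ≤ Subgroup.normalizer (Y : Set X) := by
      intro a ha
      have hcz : a ∈ Subgroup.centralizer ({z} : Set X) :=
        Subgroup.mem_centralizer_singleton_iff.2 (hab a ha z hzH)
      rw [Subgroup.mem_normalizer_iff]
      intro y
      refine and_congr ⟨fun hy => hON.conj_mem y hy a, fun hy => ?_⟩
        (Subgroup.mem_normalizer_iff.1 (Subgroup.le_normalizer hcz) y)
      have h1 := hON.conj_mem _ hy a⁻¹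
      simpa [mul_assoc] using h1
    set X' := Y ⊔ H with hX'
    have hX'lt : Nat.card X' < Nat.card X := by
      refine Nat.lt_of_le_of_ne (Subgroup.card_le_card_group X') fun hcard => ?_
      obtain ⟨o, ho, hoz⟩ := hmove
      have h1 : o ∈ Y ⊔ H := by
        rw [← hX', Subgroup.eq_top_of_card_eq X' hcard]
        trivial
      obtain ⟨y, hy, h, hh, rfl⟩ := exists_mul_of_mem_sup hHY h1
      have hh1 : h = 1 := hOH h (by
        rw [show h = y⁻¹ * (y * h) by group]
        exact mul_mem (inv_mem hy.1) ho) hh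
      subst hh1
      rw [mul_one] at hoz
      exact hoz (Subgroup.mem_centralizer_singleton_iff.1 hy.2).symm
    have hYX : Y ≤ X' := le_sup_left
    have hHX : H ≤ X' := le_sup_right
    haveI hYn : (Y.subgroupOf X').Normal :=
      Subgroup.normal_subgroupOf_of_le_normalizer (sup_le Subgroup.le_normalizer hHY)
    let j : ↥(Y.subgroupOf X') →* Γ :=
      { toFun := fun c => ⟨((c : X') : X), hOΓ c.2.1⟩
        map_one' := rfl
        map_mul' := fun _ _ => rfl }
    have hj : Function.Injective j := fun a b h =>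
      Subtype.ext (Subtype.ext (congrArg (fun x : Γ => (x : X)) h))
    have hrange : j.range = O.subgroupOf Γ ⊓ Subgroup.centralizer {s} := by
      ext x
      rw [Subgroup.mem_inf, Subgroup.mem_subgroupOf, Subgroup.mem_centralizer_singleton_iff]
      constructor
      · rintro ⟨c, rfl⟩
        exact ⟨c.2.1, Subtype.ext (Subgroup.mem_centralizer_singleton_iff.1 c.2.2)⟩
      · rintro ⟨hx1, hx2⟩
        have hxY : (x : X) ∈ Y :=
          ⟨hx1, Subgroup.mem_centralizer_singleton_iff.2 (congrArg Subtype.val hx2)⟩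
        exact ⟨⟨⟨x, hYX hxY⟩, hxY⟩, rfl⟩
    obtain ⟨β, ε, hε, hval⟩ :=
      H12.Cyclic.exists_value hcop' htop' hrange hj ⟨φ, hφirr⟩ hφres hφdet
    have hε0 : (ε : ℂ) ≠ 0 := by rcases hε with rfl | rfl <;> norm_num
    have hval' : ∀ c : ↥(Y.subgroupOf X'),
        (F : X → ℂ) (((c : X') : X) * z) = (ε : ℂ) * (β : ↥(Y.subgroupOf X') → ℂ) c := hval
    have hβinv : ∀ t ∈ H.subgroupOf X', ∀ c c' : ↥(Y.subgroupOf X'),
        (c' : X') = t * c * t⁻¹ →
          (β : ↥(Y.subgroupOf X') → ℂ) c' = (β : ↥(Y.subgroupOf X') → ℂ) c := by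
      intro t ht c c' e
      refine mul_left_cancel₀ hε0 ?_
      rw [← hval', ← hval']
      have e' : ((c' : X') : X) = (t : X) * ((c : X') : X) * (t : X)⁻¹ := congrArg Subtype.val e
      rw [e', show (t : X) * ((c : X') : X) * (t : X)⁻¹ * z =
        (t : X) * (((c : X') : X) * z) * (t : X)⁻¹ by
          have hcm : Commute (t : X)⁻¹ z := (show Commute (t : X) z from hab _ ht z hzH).inv_left
          rw [mul_assoc _ (t : X)⁻¹ z, hcm.eq]
          group]
      exact H12.irr_isClassFunction F _ _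
    have hker := ih _ hX'lt X' rfl (Y.subgroupOf X') (H.subgroupOf X') hYn
      (by rw [← Subgroup.subgroupOf_sup hYX hHX, Subgroup.subgroupOf_self])
      (by
        rw [Nat.card_congr (Subgroup.subgroupOfEquivOfLe hYX).toEquiv]
        exact hcop.coprime_dvd_left (Subgroup.card_dvd_of_le inf_le_left))
      (isPGroup_subgroupOf hH hHX) (H68.EC.comm_subgroupOf hab) (fun y hy => by
        obtain ⟨K, hK1, hK2, hK3, hK4⟩ := hc y hy.1
        refine ⟨(K ⊓ Y).subgroupOf X', fun a ha => ha.2, fun a ha => ?_, ?_, fun a ha => ⟨hK4 a ha, ?_⟩⟩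
        · rw [Subgroup.mem_normalizer_iff]
          intro b
          exact and_congr (Subgroup.mem_normalizer_iff.1 (hK2 ha) b)
            (Subgroup.mem_normalizer_iff.1 (hHY ha) b)
        · refine (Subgroup.eq_bot_iff_forall _).2 fun a ha => Subtype.ext ?_
          have h1 : (a : X) ∈ K ⊓ Subgroup.centralizer (H : Set X) :=
            ⟨ha.1.1, Subgroup.mem_centralizer_iff.2 fun b hb =>
              congrArg Subtype.val (Subgroup.mem_centralizer_iff.1 ha.2 ⟨b, hHX hb⟩ hb)⟩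
          rwa [hK3, Subgroup.mem_bot] at h1
        · exact Y.mul_mem ((Subgroup.mem_normalizer_iff.1 (hHY ha) _).1 hy) (Y.inv_mem hy))
      β hβinv
    refine ⟨?_, fun K hKO hHK hKC y hy hzy => ?_⟩
    · have h1 := hval' 1
      simp only [OneMemClass.coe_one, one_mul] at h1
      rw [h1]
      exact mul_ne_zero hε0 (H12.irr_apply_one_ne_zero β)
    · set T := K ⊓ Y with hT
      set Ker : Subgroup X := ((H12.charKer _ (H12.isCharacter_irr β)).map
        (Y.subgroupOf X').subtype).map X'.subtype with hKer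
      have hyY : y ∈ Y := ⟨hKO hy, Subgroup.mem_centralizer_singleton_iff.2 hzy.symm.eq⟩
      have hyN : y ∈ T ⊓ Ker := by
        refine mem_of_commutators hH
          (hcop.coprime_dvd_left (Subgroup.card_dvd_of_le (inf_le_left.trans (inf_le_left.trans hKO))))
          ?_ inf_le_left (le_bot_iff.1 ((inf_le_inf_right _ inf_le_left).trans hKC.le))
          ⟨hy, hyY⟩ fun h hh => ?_
        · refine Subgroup.le_normalizer_iff.2 fun a ha x hx => ?_
          obtain ⟨⟨hxK, hxY⟩, xx, ⟨c, hcβ, rfl⟩, rfl⟩ := hx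
          have hxK' := (Subgroup.mem_normalizer_iff.1 (hHK ha) _).1 hxK
          have hxY' := (Subgroup.mem_normalizer_iff.1 (hHY ha) _).1 hxY
          refine ⟨⟨hxK', hxY'⟩, ⟨⟨_, hYX hxY'⟩, ⟨⟨⟨_, hYX hxY'⟩, hxY'⟩, ?_, rfl⟩, rfl⟩⟩
          exact (hβinv ⟨a, hHX ha⟩ ha c ⟨⟨_, hYX hxY'⟩, hxY'⟩ (Subtype.ext rfl)).trans hcβ
        · have hcK := K.mul_mem ((Subgroup.mem_normalizer_iff.1 (hHK hh) _).1 hy) (K.inv_mem hy)
          have hcY := Y.mul_mem ((Subgroup.mem_normalizer_iff.1 (hHY hh) _).1 hyY) (Y.inv_mem hyY)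
          refine ⟨⟨hcK, hcY⟩, ⟨⟨_, hYX hcY⟩, ⟨⟨⟨_, hYX hcY⟩, hcY⟩, ?_, rfl⟩, rfl⟩⟩
          exact hker ⟨h, hHX hh⟩ hh ⟨⟨y, hYX hyY⟩, hyY⟩ ⟨⟨_, hYX hcY⟩, hcY⟩ (Subtype.ext rfl)
      obtain ⟨-, xx, ⟨c, hcβ, rfl⟩, hcy⟩ := hyN
      have h0 := hval' c
      have h1 := hval' 1
      simp only [OneMemClass.coe_one, one_mul] at h1
      have hcy' : ((c : X') : X) = y := hcy
      rw [hcy', show (β : ↥(Y.subgroupOf X') → ℂ) c = (β : ↥(Y.subgroupOf X') → ℂ) 1 from hcβ,
        ← h1, ← hzy.eq] at h0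
      exact h0
  -- the product formula
  have hmul : ∀ h ∈ H, ∀ k ∈ H, (∃ o ∈ O, h * k * o ≠ o * (h * k)) →
      (F : X → ℂ) h * (F : X → ℂ) k = (F : X → ℂ) 1 * (F : X → ℂ) (h * k) := by
    intro h hh k hk hmove
    have hterm : ∀ a : X, (F : X → ℂ) (h * (a * k * a⁻¹)) = (F : X → ℂ) (h * k) := by
      intro a
      obtain ⟨o, ho, t, ht, rfl⟩ :=
        Subgroup.mem_sup_of_normal_left.1 (htop ▸ Subgroup.mem_top a : a ∈ O ⊔ H)
      have e1 : o * t * k * (o * t)⁻¹ = o * k * o⁻¹ := by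
        rw [mul_assoc o t k, hab t ht k hk]
        group
      rw [e1]
      obtain ⟨K, hK1, hK2, hK3, hK4⟩ := hc o ho
      have hb : h * (o * k * o⁻¹ * k⁻¹) * h⁻¹ ∈ K := by
        refine (Subgroup.mem_normalizer_iff.1 (hK2 hh) _).1 ?_
        have h1 := inv_mem (hK4 k hk)
        rwa [show (k * o * k⁻¹ * o⁻¹)⁻¹ = o * k * o⁻¹ * k⁻¹ by group] at h1
      have hzH : h * k ∈ H := mul_mem hh hk
      obtain ⟨c, -, y, hy, hzy, e⟩ := exists_conj_centralized (hK2 hzH)
        ((hzO _ hzH).symm.coprime_dvd_right (Subgroup.card_dvd_of_le hK1)) hb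
      rw [show h * (o * k * o⁻¹) = h * (o * k * o⁻¹ * k⁻¹) * h⁻¹ * (h * k) by group, e,
        H12.irr_isClassFunction F (h * k * y) c]
      exact (hkey _ hzH hmove).2 K hK1 hK2 hK3 y hy hzy
    have hsum := H12.irr_class_product F h k
    simp only [hterm, Finset.sum_const, Finset.card_univ, nsmul_eq_mul] at hsum
    rw [← Nat.card_eq_fintype_card] at hsum
    have h1 := H12.irr_apply_one_ne_zero F
    field_simp at hsum
    linear_combination -hsum
  -- elements moving `O` act as scalars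
  obtain ⟨d, ρ, -, hρ⟩ := F.2
  have hρ1 : (F : X → ℂ) 1 = (Module.finrank ℂ (Fin d → ℂ) : ℂ) := by
    rw [← hρ, Representation.char_one]
  have hd : (0 : ℝ) < Module.finrank ℂ (Fin d → ℂ) := by
    have h1 := H12.irr_apply_one_ne_zero F
    rw [hρ1, Nat.cast_ne_zero] at h1
    exact_mod_cast Nat.pos_of_ne_zero h1
  intro h hh o g hg
  have hρg : ρ (g : X) = 1 := by
    rw [hg]
    by_cases hmove : ∃ o' ∈ O, h * o' ≠ o' * h
    swap
    · push Not at hmove
      rw [hmove o o.2, mul_inv_cancel_right, mul_inv_cancel, map_one]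
    have hodd : Odd (orderOf h) := by
      obtain ⟨k, hk⟩ := hH ⟨h, hh⟩
      exact ((Nat.Prime.odd_of_ne_two Fact.out hp2).pow).of_dvd_nat
        (orderOf_dvd_of_pow_eq_one (congrArg Subtype.val hk))
    have hm : ∀ i : ℕ, ∃ o' ∈ O, h ^ 2 ^ i * o' ≠ o' * h ^ 2 ^ i := by
      intro i
      obtain ⟨o', ho', hne⟩ := hmove
      refine ⟨o', ho', fun e => hne ?_⟩
      have hco : (orderOf h).gcd (2 ^ i) = 1 :=
        (Nat.Coprime.pow_right i (Nat.coprime_two_right.2 hodd))
      obtain ⟨j, hj⟩ := exists_pow_eq_self_of_coprime (Nat.Coprime.symm hco)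
      have := (show Commute (h ^ 2 ^ i) o' from e).pow_left j
      rwa [hj] at this
    set u : ℕ → ℝ := fun i => ‖(F : X → ℂ) (h ^ 2 ^ i)‖ / Module.finrank ℂ (Fin d → ℂ) with hu
    have hstep : ∀ i, u (i + 1) = u i * u i := by
      intro i
      have he : h ^ 2 ^ (i + 1) = h ^ 2 ^ i * h ^ 2 ^ i := by
        rw [← pow_add, pow_succ, mul_two]
      have h1 := congrArg (fun z : ℂ => ‖z‖) (hmul _ (pow_mem hh (2 ^ i)) _ (pow_mem hh (2 ^ i))
        (by rw [← he]; exact hm (i + 1)))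
      simp only [norm_mul, hρ1, Complex.norm_natCast, ← he] at h1
      simp only [hu]
      rw [div_mul_div_comm, h1, mul_div_mul_left _ _ hd.ne']
    have hpow : ∀ i, u i = u 0 ^ 2 ^ i := by
      intro i
      induction i with
      | zero => simp
      | succ i hi => rw [hstep, hi, ← pow_add, pow_succ, mul_two]
    have hper : h ^ 2 ^ Nat.totient (orderOf h) = h :=
      pow_eq_self_of_modEq dvd_rfl (Nat.ModEq.pow_totient (Nat.coprime_two_left.2 hodd))
    have hu0 : u 0 = 1 := by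
      refine eq_one_of_sq_pow ?_ (Nat.totient_pos.2 (orderOf_pos h)) ?_
      · refine div_pos (norm_pos_iff.2 ?_) hd
        rw [pow_zero, pow_one]
        exact (hkey h hh hmove).1
      · rw [← hpow]
        simp only [hu, hper, pow_zero, pow_one]
    simp only [hu, pow_zero, pow_one, ← hρ] at hu0
    rw [div_eq_one_iff_eq hd.ne'] at hu0
    obtain ⟨ω, hω⟩ := H12.exists_scalar_of_norm_eq ρ h hu0
    have hcom : ρ (h * o) = ρ (o * h) := by
      rw [map_mul, map_mul, hω, ← Module.End.one_eq_id, smul_mul_assoc, one_mul, mul_smul_comm,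
        mul_one]
    rw [map_mul, map_mul, hcom, ← map_mul, ← map_mul, mul_inv_cancel_right, mul_inv_cancel,
      map_one]
  rw [← hF g, ← hF1, ← hρ]
  show LinearMap.trace ℂ _ (ρ (g : X)) = LinearMap.trace ℂ _ (ρ 1)
  rw [hρg, map_one ρ]

/-- The commutators with `H` generate a subgroup without fixed points. -/
theorem eq_one_of_mem_closure {p : ℕ} [Fact p.Prime] (hp2 : p ≠ 2) {X : Type u} [Group X]
    [Finite X] {O H : Subgroup X} [hON : O.Normal] (hcop : (Nat.card O).Coprime p)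
    (hH : IsPGroup p H) (hab : ∀ a ∈ H, ∀ b ∈ H, a * b = b * a) (hc : CondB O H) {c : X}
    (hcD : c ∈ Subgroup.closure {x : X | ∃ h ∈ H, ∃ o ∈ O, x = h * o * h⁻¹ * o⁻¹})
    (hcH : c ∈ Subgroup.centralizer (H : Set X)) : c = 1 := by
  classical
  by_contra hc1
  haveI := Fintype.ofFinite X
  set S := O ⊔ H with hS
  have hOS : O ≤ S := le_sup_left
  have hHS : H ≤ S := le_sup_right
  have hcO : c ∈ O := (Subgroup.closure_le O).2 (by
    rintro x ⟨h, -, o, ho, rfl⟩
    exact mul_mem (hON.conj_mem o ho h) (inv_mem ho)) hcD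
  have hnorm : ∀ s ∈ H, ∀ g ∈ O, s * g * s⁻¹ ∈ O := fun s _ g hg => hON.conj_mem g hg s
  set φ := H12.Glauberman.conjHom O H hnorm with hφ
  set cO : O := ⟨c, hcO⟩ with hcO'
  have hfix : ∀ θ : IrrCharacter O, H12.Glauberman.Inv φ (θ : O → ℂ) →
      (θ : O → ℂ) cO = (θ : O → ℂ) 1 := by
    intro θ hθ
    rw [hφ, H12.Glauberman.inv_conjHom_iff] at hθ
    let θ' : IrrCharacter (O.subgroupOf S) := H12.irrCongr (Subgroup.subgroupOfEquivOfLe hOS) θ
    have key := fixed_irr_kernel hp2 _ S rfl (O.subgroupOf S) (H.subgroupOf S) inferInstance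
      (by rw [← Subgroup.subgroupOf_sup hOS hHS, Subgroup.subgroupOf_self])
      (by rwa [Nat.card_congr (Subgroup.subgroupOfEquivOfLe hOS).toEquiv])
      (isPGroup_subgroupOf hH hHS) (H68.EC.comm_subgroupOf hab) (fun y hy => by
        obtain ⟨K, hK1, hK2, hK3, hK4⟩ := hc y hy
        refine ⟨K.subgroupOf S, fun a ha => hK1 ha, fun a ha => ?_, ?_, fun a ha => hK4 a ha⟩
        · rw [Subgroup.mem_normalizer_iff]
          intro b
          exact Subgroup.mem_normalizer_iff.1 (hK2 ha) b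
        · refine (Subgroup.eq_bot_iff_forall _).2 fun a ha => Subtype.ext ?_
          have h1 : (a : X) ∈ K ⊓ Subgroup.centralizer (H : Set X) :=
            ⟨ha.1, Subgroup.mem_centralizer_iff.2 fun b hb =>
              congrArg Subtype.val (Subgroup.mem_centralizer_iff.1 ha.2 ⟨b, hHS hb⟩ hb)⟩
          rwa [hK3, Subgroup.mem_bot] at h1)
      θ' (fun s hs g g' e => hθ _ hs _ _ (congrArg Subtype.val e))
    have hle : Subgroup.closure {x : X | ∃ h ∈ H, ∃ o ∈ O, x = h * o * h⁻¹ * o⁻¹} ≤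
        (H12.charKer _ (H12.isCharacter_irr θ)).map O.subtype := by
      refine (Subgroup.closure_le _).2 ?_
      rintro x ⟨h, hh, o, ho, rfl⟩
      have hg : h * o * h⁻¹ * o⁻¹ ∈ O := mul_mem (hnorm h hh o ho) (inv_mem ho)
      exact ⟨⟨_, hg⟩, key ⟨h, hHS hh⟩ hh ⟨⟨o, hOS ho⟩, ho⟩ ⟨⟨_, hOS hg⟩, hg⟩ (Subtype.ext rfl), rfl⟩
    obtain ⟨x, hx, hxc⟩ := hle hcD
    have : x = cO := Subtype.ext hxc
    exact this ▸ hx
  letI := H12.Glauberman.irrAction φ
  let f : IrrCharacter O → ℂ := fun θ =>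
    (θ : O → ℂ) 1 * (θ : O → ℂ) cO - (θ : O → ℂ) 1 * (θ : O → ℂ) 1
  have hsum : H12.Glauberman.Cong p (∑ θ, f θ) 0 := by
    refine H12.Glauberman.cong_sum_zero_of_fixed hH f (fun θ => ?_) (fun s θ => ?_) fun θ hθ => ?_
    · have hI := H12.IsCharacter.isIntegral (H12.isCharacter_irr θ)
      exact ((hI 1).mul (hI cO)).sub ((hI 1).mul (hI 1))
    · have hcfix : φ s⁻¹ cO = cO := Subtype.ext (by
        show (s : X)⁻¹ * c * ((s : X)⁻¹)⁻¹ = c
        rw [Subgroup.mem_centralizer_iff.1 hcH _ (inv_mem s.2), mul_inv_cancel_right])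
      show (θ : O → ℂ) (φ s⁻¹ 1) * (θ : O → ℂ) (φ s⁻¹ cO) -
        (θ : O → ℂ) (φ s⁻¹ 1) * (θ : O → ℂ) (φ s⁻¹ 1) = f θ
      rw [map_one, hcfix]
    · have hinv : H12.Glauberman.Inv φ (θ : O → ℂ) := fun s g => by
        have h' : ((s⁻¹ • θ : IrrCharacter O) : O → ℂ) g = (θ : O → ℂ) g :=
          congrArg (fun ψ : IrrCharacter O => (ψ : O → ℂ) g) (hθ s⁻¹)
        rw [← h']
        show _ = (θ : O → ℂ) (φ s⁻¹⁻¹ g)
        rw [inv_inv]
      show H12.Glauberman.Cong p (f θ) 0
      simp only [f, hfix θ hinv, sub_self]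
      exact H12.Glauberman.Cong.refl 0
  have hval : ∑ θ : IrrCharacter O, f θ = ((-(Nat.card O : ℤ) : ℤ) : ℂ) := by
    have h1 := H12.regular_eq_sum cO
    have h2 := H12.regular_eq_sum (1 : O)
    rw [if_neg (fun e => hc1 (congrArg Subtype.val e))] at h1
    rw [if_pos rfl] at h2
    rw [Finset.sum_sub_distrib, h1, h2]
    push_cast
    ring
  rw [hval, show (0 : ℂ) = ((0 : ℤ) : ℂ) by norm_num] at hsum
  have h3 := hsum.zmod_eq
  push_cast at h3
  rw [neg_eq_zero, ZMod.natCast_eq_zero_iff] at h3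
  exact (Nat.Prime.coprime_iff_not_dvd Fact.out).1 hcop.symm h3

end H31.EXO
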