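import Cfsg.Agent.H31.ExtOdd.Setup
import Cfsg.Agent.H68.ExtClosed.FixedSpace
import Cfsg.Agent.H11.ColumnsNormalizer
import Cfsg.Agent.H85.ZStarBlocks
import Cfsg.Agent.H22.SectionOrth
import Cfsg.Agent.H20.Knorr
import Cfsg.Agent.H12.Products
import Cfsg.Agent.H12.Linear

/-!
The sums over the principal block at the elements of an extremely closed abelian `p`-subgroup.
-/

set_option autoImplicit false
set_option linter.style.haveILetI false
set_option linter.unusedSectionVars false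

open Cfsg
open scoped ComplexConjugate

namespace H31.EXO

open H70 H68.EC

universe u

variable {G : Type u} [Group G] [Fintype G] {p : ℕ} [Fact p.Prime] {M : Ideal AlgInt} [M.IsPrime]
  {H : Subgroup G} [Fintype H]

/-- The sum of the squares of the degrees in the principal block of a centraliser. -/
noncomputable def cz (M : Ideal AlgInt) (z : G) : ℕ :=
  ∑ᶠ ψ ∈ principalBlock M ↥(Subgroup.centralizer ({z} : Set G)),
    charDegree (ψ : ↥(Subgroup.centralizer ({z} : Set G)) → ℂ) ^ 2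

theorem card_le_sum_sq {K : Type u} [Group K] [Fintype K] (hM : IsPModular p M) (W : Subgroup K)
    (hW : IsPGroup p W) :
    Nat.card W ≤ ∑ᶠ ψ ∈ principalBlock M K, charDegree (ψ : K → ℂ) ^ 2 := by
  classical
  haveI := Fintype.ofFinite W
  rw [H22.finsum_mem_block]
  set B := H22.blockFinset (principalBlock M K) with hB
  choose m hm using fun ψ : IrrCharacter K => exists_sum_eq_card_mul (H12.isCharacter_irr ψ) W
  have hdeg : ∀ ψ : IrrCharacter K, (ψ : K → ℂ) 1 = (charDegree (ψ : K → ℂ) : ℂ) :=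
    fun ψ => H12.irr_apply_one ψ
  have key : ((∑ ψ ∈ B, charDegree (ψ : K → ℂ) ^ 2 : ℕ) : ℂ) =
      ((Nat.card W * ∑ ψ ∈ B, charDegree (ψ : K → ℂ) * m ψ : ℕ) : ℂ) := by
    have e : ∑ v : W, ∑ ψ ∈ B, (ψ : K → ℂ) 1 * (ψ : K → ℂ) v =
        ∑ ψ ∈ B, (ψ : K → ℂ) 1 * (ψ : K → ℂ) 1 := by
      refine (Finset.sum_eq_single (1 : W) (fun v _ hv => ?_) (by simp)).trans (by simp)
      have hv2 : p ∣ orderOf ((v : K)⁻¹) := by
        rw [orderOf_inv]
        obtain ⟨k, hk⟩ := IsPGroup.iff_orderOf.mp hW v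
        rw [Subgroup.orderOf_coe, hk]
        refine dvd_pow_self p fun h => hv (orderOf_eq_one_iff.1 ?_)
        rw [hk, h, pow_zero]
      have h0 := H20.weak_orthogonality hM (H20.isPBlock_principalBlock (M := M) (G := K))
        (x := 1) (y := (v : K)⁻¹)
        (by rw [orderOf_one]; exact (Fact.out : p.Prime).not_dvd_one) hv2
      rw [H22.finsum_mem_block] at h0
      refine Eq.trans (Finset.sum_congr rfl fun ψ _ => ?_) h0
      rw [H12.irr_inv, Complex.conj_conj]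
    rw [Finset.sum_comm] at e
    simp only [← Finset.mul_sum, hm, hdeg] at e
    push_cast [Finset.mul_sum]
    rw [Finset.sum_congr rfl fun (ψ : IrrCharacter K) _ => pow_two (charDegree (ψ : K → ℂ) : ℂ), ← e]
    exact Finset.sum_congr rfl fun ψ _ => by ring
  rw [Nat.cast_inj.1 key]
  refine Nat.le_mul_of_pos_right _ (Nat.pos_of_ne_zero fun h => ?_)
  have hone : H12.oneIrr K ∈ B := H22.mem_blockFinset.2 (H20.mem_blockOf_self (H12.oneIrr K))
  have h2 : (∑ ψ ∈ B, charDegree (ψ : K → ℂ) ^ 2) = 0 := by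
    rw [Nat.cast_inj.1 key, h, mul_zero]
  have h3 := (Finset.sum_eq_zero_iff.1 h2) _ hone
  exact (H12.irr_degree_pos (H12.oneIrr K)).ne' (eq_zero_of_pow_eq_zero h3)

theorem exists_twisted_mult (χ : IrrCharacter G) (l : H →* ℂˣ) :
    ∃ m : ℕ, ∑ k : H, ((l k : ℂ))⁻¹ * (χ : G → ℂ) k = (Nat.card H : ℂ) * m := by
  obtain ⟨d, ρ, -, hρ⟩ := χ.2
  haveI : Invertible (Nat.card H : ℂ) := invertibleOfNonzero H12.card_ne_zero'
  let τ : Representation ℂ H (Fin d → ℂ) :=
    { toFun := fun k => ((l k : ℂ))⁻¹ • ρ k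
      map_one' := by simp
      map_mul' := fun a b => by
        simp only [Subgroup.coe_mul, map_mul, Units.val_mul, mul_inv, smul_mul_assoc, mul_smul_comm,
          smul_smul]
        rw [mul_comm ((l b : ℂ))⁻¹] }
  refine ⟨Module.finrank ℂ (Representation.invariants τ), ?_⟩
  rw [← Representation.card_inv_mul_sum_char_eq_finrank, mul_inv_cancel_left₀ H12.card_ne_zero']
  refine Finset.sum_congr rfl fun k _ => ?_
  rw [← hρ]
  show _ = LinearMap.trace ℂ _ (((l k : ℂ))⁻¹ • ρ k)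
  rw [map_smul, smul_eq_mul]
  rfl

/-- The multiplicity of a linear character of `H` in the restriction. -/
noncomputable def mlt (χ : IrrCharacter G) (l : H →* ℂˣ) : ℕ :=
  (exists_twisted_mult χ l).choose

theorem mlt_spec (χ : IrrCharacter G) (l : H →* ℂˣ) :
    ∑ k : H, ((l k : ℂ))⁻¹ * (χ : G → ℂ) k = (Nat.card H : ℂ) * mlt χ l :=
  (exists_twisted_mult χ l).choose_spec

/-- A linear character of `H` unchanged by the fusion. -/
def Compatible (p : ℕ) (H : Subgroup G) (l : H →* ℂˣ) : Prop :=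
  ∀ g : G, ∀ a b : H, g * a * g⁻¹ * (b : G)⁻¹ ∈ coreIn p (H ⊔ cj g H) → l a = l b

theorem compatible_one : Compatible p H 1 := fun _ _ _ _ => rfl

theorem compatible_of_fixed (hH : IsPGroup p H) (hF : Fixed p H) (l : H →* ℂˣ) :
    Compatible p H l := by
  intro g a b h
  have h1 := mul_mem (inv_mem (hF g a a.2)) h
  have h2 : (a : G) * (b : G)⁻¹ ∈ coreIn p (H ⊔ cj g H) := by
    convert h1 using 1
    group
  rw [Subtype.ext (mul_inv_eq_one.1
    (eq_one_of_mem hH (coprime_coreIn _) (mul_mem a.2 (inv_mem b.2)) h2))]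

variable (M) in
/-- The block sum weighted by the multiplicities. -/
noncomputable def rSum (l : H →* ℂˣ) (v : G) : ℂ :=
  ∑ χ ∈ H22.blockFinset (principalBlock M G), (mlt χ l : ℂ) * (χ : G → ℂ) v

variable (M) in
/-- The weighted triple sum. -/
noncomputable def tSum (l : H →* ℂˣ) (h v : G) : ℂ :=
  ∑ χ ∈ H22.blockFinset (principalBlock M G),
    (mlt χ l : ℂ) / (χ : G → ℂ) 1 * ((χ : G → ℂ) h * (χ : G → ℂ) v)

theorem irr_conj_comm (χ : IrrCharacter G) (c x : G) :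
    (χ : G → ℂ) (c * x * c⁻¹) = (χ : G → ℂ) x := H12.irr_isClassFunction χ x c

namespace Setup

variable (S : Setup p H)
include S

theorem dvd_orderOf {v : G} (hv : v ∈ H) (hv1 : v ≠ 1) : p ∣ orderOf v := by
  obtain ⟨k, hk⟩ := IsPGroup.iff_orderOf.mp S.isP ⟨v, hv⟩
  rw [Subgroup.orderOf_mk] at hk
  rw [hk]
  refine dvd_pow_self p fun h => hv1 ?_
  rw [h, pow_zero, orderOf_eq_one_iff] at hk
  exact hk

theorem weak_at (hM : IsPModular p M) {x v : G} (hx : ¬ p ∣ orderOf x) (hv : v ∈ H) (hv1 : v ≠ 1) :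
    ∑ χ ∈ H22.blockFinset (principalBlock M G), (χ : G → ℂ) x * (χ : G → ℂ) v = 0 := by
  have h0 := H20.weak_orthogonality hM (H20.isPBlock_principalBlock (M := M) (G := G))
    (x := x) (y := v⁻¹) hx (by rw [orderOf_inv]; exact S.dvd_orderOf hv hv1)
  rw [H22.finsum_mem_block] at h0
  refine Eq.trans (Finset.sum_congr rfl fun χ _ => ?_) h0
  rw [H12.irr_inv, Complex.conj_conj]

theorem block_value (hM : IsPModular p M) {K : Subgroup G} (hK : (Nat.card K).Coprime p)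
    (hHK : H ≤ Subgroup.normalizer (K : Set G))
    (hKC : K ⊓ Subgroup.centralizer (H : Set G) = ⊥) {a z v : G} (ha : a ∈ K) (hz : z ∈ H)
    (hv : v ∈ H) (hv1 : v ≠ 1) :
    ∑ χ ∈ H22.blockFinset (principalBlock M G), (χ : G → ℂ) (a * z) * (χ : G → ℂ) v =
      ∑ χ ∈ H22.blockFinset (principalBlock M G), (χ : G → ℂ) z * (χ : G → ℂ) v := by
  by_cases hz1 : z = 1
  · subst hz1
    rw [mul_one, S.weak_at hM (fun h => ?_) hv hv1, S.weak_at hM ?_ hv hv1]
    · rw [orderOf_one]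
      exact (Fact.out : p.Prime).not_dvd_one
    · exact (Nat.Prime.coprime_iff_not_dvd Fact.out).1 hK.symm
        (h.trans (Subgroup.orderOf_dvd_natCard K ha))
  have hzp : ∃ k : ℕ, orderOf z = p ^ k := by
    obtain ⟨k, hk⟩ := IsPGroup.iff_orderOf.mp S.isP ⟨z, hz⟩
    exact ⟨k, by rwa [Subgroup.orderOf_mk] at hk⟩
  obtain ⟨k, hk⟩ := hzp
  obtain ⟨c, -, y, hy, hzy, e⟩ := exists_conj_centralized (hHK hz)
    (by rw [hk]; exact (hK.pow_right k).symm) ha
  refine Finset.sum_congr rfl fun χ hχ => ?_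
  rw [e, irr_conj_comm, H85.irr_apply_mul_pPrimeCore hM ⟨k, hk⟩
    (show y ∈ Cfsg.centralizerPPrimeCore p z from S.cent_le_core hK hHK hKC hz hz1 hy hzy)
    (H22.mem_blockFinset.1 hχ)]

/-- The fundamental equation. -/
theorem equation (hM : IsPModular p M) {l : H →* ℂˣ} (hl : Compatible p H l) (h : H) {v : G}
    (hv : v ∈ H) (hv1 : v ≠ 1) : tSum M l h v = (l h : ℂ) * rSum M l v := by
  classical
  set B := H22.blockFinset (principalBlock M G) with hB
  set s : ℂ := (Nat.card H : ℂ) with hs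
  have hterm : ∀ g : G, ∑ k : H, ((l k : ℂ))⁻¹ *
      ∑ χ ∈ B, (χ : G → ℂ) ((h : G) * (g * k * g⁻¹)) * (χ : G → ℂ) v =
      (l h : ℂ) * (s * rSum M l v) := by
    intro g
    obtain ⟨K, hK1, hK2, hK3, hK4, hK5⟩ := S.cond g
    have hHK : H ≤ Subgroup.normalizer (K : Set G) := le_sup_left.trans hK3
    have hex : ∀ k : H, ∃ k' : H, g * k * g⁻¹ * (k' : G)⁻¹ ∈ K := fun k => by
      obtain ⟨a, ha, b, hb, e⟩ := exists_mul_of_mem_sup hHK (hK4 (show g * (k : G) * g⁻¹ ∈ cj g H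
        from mem_cj.2 (by simpa [mul_assoc] using k.2)))
      exact ⟨⟨b, hb⟩, by rw [e, mul_inv_cancel_right]; exact ha⟩
    choose σ hσ using hex
    have hσinj : Function.Injective σ := by
      intro a b e
      have h1 := K.mul_mem (hσ a) (K.inv_mem (hσ b))
      rw [e, show g * (a : G) * g⁻¹ * (σ b : G)⁻¹ * (g * (b : G) * g⁻¹ * (σ b : G)⁻¹)⁻¹ =
        g * ((a : G) * (b : G)⁻¹) * g⁻¹ by group] at h1
      obtain ⟨j, hj⟩ := S.isP (a * b⁻¹)
      have hj' : ((a : G) * (b : G)⁻¹) ^ p ^ j = 1 := congrArg Subtype.val hj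
      have h2 : (g * ((a : G) * (b : G)⁻¹) * g⁻¹) ^ Nat.card K = 1 :=
        congrArg Subtype.val (pow_card_eq_one' (x := (⟨_, h1⟩ : K)))
      rw [conj_pow] at h2
      have h3 : ((a : G) * (b : G)⁻¹) ^ Nat.card K = 1 := conj_eq_one_iff.1 h2
      exact Subtype.ext (mul_inv_eq_one.1
        (eq_one_of_coprime S.isP hK2 (H.mul_mem a.2 (H.inv_mem b.2)) h3))
    have hKcore : K ≤ coreIn p (H ⊔ cj g H) := le_coreIn hK1 hK2 hK3
    have hlσ : ∀ k, l k = l (σ k) := fun k => hl g k (σ k) (hKcore (hσ k))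
    let e : H ≃ H := (Equiv.ofBijective σ hσinj.bijective_of_finite).trans (Equiv.mulLeft h)
    have hpt : ∀ k : H, ((l k : ℂ))⁻¹ *
        ∑ χ ∈ B, (χ : G → ℂ) ((h : G) * (g * k * g⁻¹)) * (χ : G → ℂ) v =
        (l h : ℂ) * (((l (e k) : ℂ))⁻¹ * ∑ χ ∈ B, (χ : G → ℂ) (e k : G) * (χ : G → ℂ) v) := by
      intro k
      have he : e k = h * σ k := rfl
      rw [he, hlσ k, map_mul, Units.val_mul, mul_inv, mul_assoc ((l h : ℂ))⁻¹,
        mul_inv_cancel_left₀ (Units.ne_zero _), Subgroup.coe_mul]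
      congr 1
      rw [← S.block_value hM hK2 hHK hK5 (a := (h : G) * (g * k * g⁻¹ * (σ k : G)⁻¹) * (h : G)⁻¹)
        ((Subgroup.mem_normalizer_iff.1 (hHK h.2) _).1 (hσ k)) (H.mul_mem h.2 (σ k).2) hv hv1]
      refine Finset.sum_congr rfl fun χ _ => ?_
      congr 2
      group
    rw [Finset.sum_congr rfl fun k _ => hpt k, ← Finset.mul_sum,
      Equiv.sum_comp e fun k => ((l k : ℂ))⁻¹ * ∑ χ ∈ B, (χ : G → ℂ) (k : G) * (χ : G → ℂ) v]
    congr 1
    simp only [rSum, Finset.mul_sum, ← hB]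
    rw [Finset.sum_comm]
    refine Finset.sum_congr rfl fun χ _ => ?_
    rw [← mul_assoc, hs, ← mlt_spec, Finset.sum_mul]
    exact Finset.sum_congr rfl fun k _ => by ring
  have h1 := Finset.sum_congr rfl fun g (_ : g ∈ (Finset.univ : Finset G)) => hterm g
  rw [Finset.sum_const, Finset.card_univ, nsmul_eq_mul, ← Nat.card_eq_fintype_card] at h1
  have h2 : ∑ g : G, ∑ k : H, ((l k : ℂ))⁻¹ *
      ∑ χ ∈ B, (χ : G → ℂ) ((h : G) * (g * k * g⁻¹)) * (χ : G → ℂ) v =
      (Nat.card G : ℂ) * (s * tSum M l h v) := by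
    calc _ = ∑ k : H, ((l k : ℂ))⁻¹ * ∑ χ ∈ B,
          (∑ g : G, (χ : G → ℂ) ((h : G) * (g * k * g⁻¹))) * (χ : G → ℂ) v := by
          rw [Finset.sum_comm]
          refine Finset.sum_congr rfl fun k _ => ?_
          simp only [Finset.sum_mul, Finset.mul_sum]
          rw [Finset.sum_comm]
      _ = ∑ χ ∈ B, (Nat.card G : ℂ) * ((χ : G → ℂ) h * (χ : G → ℂ) v / (χ : G → ℂ) 1) *
          ∑ k : H, ((l k : ℂ))⁻¹ * (χ : G → ℂ) k := by
          simp only [H12.irr_class_product, Finset.mul_sum]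
          rw [Finset.sum_comm]
          refine Finset.sum_congr rfl fun χ _ => Finset.sum_congr rfl fun k _ => ?_
          ring
      _ = _ := by
          simp only [mlt_spec, tSum, ← hB, Finset.mul_sum]
          refine Finset.sum_congr rfl fun χ _ => ?_
          rw [hs]
          ring
  rw [h2] at h1
  have hs0 : s ≠ 0 := Nat.cast_ne_zero.2 Nat.card_pos.ne'
  have h3 := mul_left_cancel₀ (Nat.cast_ne_zero.2 (Nat.card_pos (α := G)).ne') h1
  refine mul_left_cancel₀ hs0 (h3.trans ?_)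
  ring

theorem conj_lin (l : H →* ℂˣ) (k : H) : conj (l k : ℂ) = ((l k : ℂ))⁻¹ :=
  H12.conj_eq_inv_of_pow_eq_one (n := Nat.card H) Nat.card_pos.ne' (by
    rw [← Units.val_pow_eq_pow_val, ← map_pow, pow_card_eq_one', map_one, Units.val_one])

/-- For positive multiplicity the twisted values are constant away from the identity. -/
theorem twisted_const (hM : IsPModular p M) {l : H →* ℂˣ} (hl : Compatible p H l) (a b : H)
    (ha : (a : G) ≠ 1) (hb : (b : G) ≠ 1) (χ : IrrCharacter G)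
    (hχ : χ ∈ H22.blockFinset (principalBlock M G)) (hm : mlt χ l ≠ 0) :
    ((l a : ℂ))⁻¹ * (χ : G → ℂ) a = ((l b : ℂ))⁻¹ * (χ : G → ℂ) b := by
  classical
  set B := H22.blockFinset (principalBlock M G) with hB
  let w : IrrCharacter G → H → ℂ := fun ψ k => ((l k : ℂ))⁻¹ * (ψ : G → ℂ) k
  let A : H → H → ℂ := fun x y => ∑ ψ ∈ B, (mlt ψ l : ℂ) / (ψ : G → ℂ) 1 * (w ψ x * w ψ y)
  have hne : ∀ x : H, (l x : ℂ) ≠ 0 := fun x => Units.ne_zero _
  have hA : ∀ x y : H, (y : G) ≠ 1 → A x y = ((l y : ℂ))⁻¹ * rSum M l y := by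
    intro x y hy
    have h1 : A x y = ((l x : ℂ))⁻¹ * ((l y : ℂ))⁻¹ * tSum M l x y := by
      simp only [A, w, tSum, ← hB, Finset.mul_sum]
      exact Finset.sum_congr rfl fun ψ _ => by ring
    rw [h1, S.equation hM hl x y.2 hy]
    have := hne x
    field_simp
  have hAc : ∀ x y : H, (x : G) ≠ 1 → (y : G) ≠ 1 →
      ((l x : ℂ))⁻¹ * rSum M l x = ((l y : ℂ))⁻¹ * rSum M l y := by
    intro x y hx hy
    rw [← hA x y hy, ← hA y x hx]
    exact Finset.sum_congr rfl fun ψ _ => by ring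
  have hinv : ∀ x : H, (x : G) ≠ 1 → (((x⁻¹ : H)) : G) ≠ 1 := fun x hx => by simpa using hx
  have hconj : ∀ (ψ : IrrCharacter G) (x : H), conj (w ψ x) = w ψ x⁻¹ := fun ψ x => by
    simp only [w, map_mul, map_inv₀, S.conj_lin, map_inv, Units.val_inv_eq_inv_val,
      Subgroup.coe_inv, H12.irr_inv]
  have hzero : ∑ ψ ∈ B, (mlt ψ l : ℂ) / (ψ : G → ℂ) 1 *
      ((w ψ a - w ψ b) * conj (w ψ a - w ψ b)) = 0 := by
    have e : ∀ ψ : IrrCharacter G, (mlt ψ l : ℂ) / (ψ : G → ℂ) 1 *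
        ((w ψ a - w ψ b) * conj (w ψ a - w ψ b)) =
        (mlt ψ l : ℂ) / (ψ : G → ℂ) 1 * (w ψ a * w ψ a⁻¹) -
        (mlt ψ l : ℂ) / (ψ : G → ℂ) 1 * (w ψ a * w ψ b⁻¹) -
        ((mlt ψ l : ℂ) / (ψ : G → ℂ) 1 * (w ψ b * w ψ a⁻¹) -
        (mlt ψ l : ℂ) / (ψ : G → ℂ) 1 * (w ψ b * w ψ b⁻¹)) := fun ψ => by
      rw [map_sub, hconj, hconj]
      ring
    rw [Finset.sum_congr rfl fun ψ _ => e ψ, Finset.sum_sub_distrib, Finset.sum_sub_distrib,
      Finset.sum_sub_distrib]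
    show A a a⁻¹ - A a b⁻¹ - (A b a⁻¹ - A b b⁻¹) = 0
    rw [hA _ _ (hinv a ha), hA _ _ (hinv b hb), hA _ _ (hinv a ha), hA _ _ (hinv b hb)]
    ring
  have hre : ∑ ψ ∈ B, (mlt ψ l : ℝ) / (H12.degree (ψ : G → ℂ) : ℝ) *
      Complex.normSq (w ψ a - w ψ b) = 0 := by
    refine Complex.ofReal_injective (Eq.trans ?_ hzero)
    push_cast
    refine Finset.sum_congr rfl fun ψ _ => ?_
    rw [H12.irr_apply_one, Complex.mul_conj]
  have h1 := (Finset.sum_eq_zero_iff_of_nonneg fun ψ _ => by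
    exact mul_nonneg (div_nonneg (Nat.cast_nonneg _) (Nat.cast_nonneg _))
      (Complex.normSq_nonneg _)).1 hre χ hχ
  have hd : (H12.degree (χ : G → ℂ) : ℝ) ≠ 0 := Nat.cast_ne_zero.2 (H12.irr_degree_pos χ).ne'
  rw [mul_eq_zero, div_eq_zero_iff, Nat.cast_eq_zero, Complex.normSq_eq_zero, sub_eq_zero] at h1
  exact h1.resolve_left fun h => h.elim hm hd

end Setup

end H31.EXO
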