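import Cfsg.Agent.H31.ExtOdd.Contra
import Cfsg.Agent.H31.ExtOdd.Coprime

/-!
Extremely closed abelian `p`-subgroups, `p` odd: `G = N(H) O_{p'}(G)` and the normal closure meets
the normaliser in `H`.
-/

set_option autoImplicit false
set_option linter.style.haveILetI false

namespace H31.EXO

open H70 H68.EC

universe u

theorem card_quot_lt {G : Type u} [Group G] [Finite G] (N : Subgroup G) [N.Normal]
    (hN : N ≠ ⊥) : Nat.card (G ⧸ N) < Nat.card G := by
  rw [Subgroup.card_eq_card_quotient_mul_card_subgroup N]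
  exact lt_mul_of_one_lt_right Nat.card_pos (Subgroup.one_lt_card_iff_ne_bot _ |>.2 hN)

theorem card_sub_lt {G : Type u} [Group G] [Finite G] (S : Subgroup G) (hS : S ≠ ⊤) :
    Nat.card S < Nat.card G :=
  Nat.lt_of_le_of_ne (Subgroup.card_le_card_group S) fun h => hS (Subgroup.eq_top_of_card_eq S h)

theorem centralizer_le_normalizer_self {G : Type u} [Group G] (H : Subgroup G) :
    Subgroup.centralizer (H : Set G) ≤ Subgroup.normalizer (H : Set G) := by
  intro c hc
  rw [Subgroup.mem_normalizer_iff]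
  intro x
  constructor
  · intro hx
    rwa [← Subgroup.mem_centralizer_iff.1 hc x hx, mul_inv_cancel_right]
  · intro hx
    have h2 := Subgroup.mem_centralizer_iff.1 hc _ hx
    have h3 : c * x * c⁻¹ = x := by
      calc c * x * c⁻¹ = c⁻¹ * (c * (c * x * c⁻¹)) := by group
        _ = c⁻¹ * (c * x * c⁻¹ * c) := by rw [h2]
        _ = x := by group
    exact h3 ▸ hx

/-- The factorisation. -/
theorem factorises_abelian {p : ℕ} [Fact p.Prime] (hp2 : p ≠ 2) : ∀ (n : ℕ) (G : Type u) [Group G]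
    [Finite G], Nat.card G = n → ∀ H : Subgroup G, IsPGroup p H →
      (∀ a ∈ H, ∀ b ∈ H, a * b = b * a) → Cond p H → Factorises p H := by
  intro n
  induction n using Nat.strong_induction_on with
  | _ n ih =>
  intro G _ _ hn H hP hab hc
  subst hn
  haveI hOn := H1.pPrimeCore_normal' p G
  by_cases hO : Cfsg.pPrimeCore p G = ⊥
  swap
  · exact factorises_of_quotient hP _ (H1.card_pPrimeCore_coprime p G)
      (ih _ (card_quot_lt _ hO) _ rfl _ (hP.map _) (comm_map hab _)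
        (hc.map hP (QuotientGroup.mk'_surjective _)))
  by_cases hH : H.Normal
  · exact factorises_of_normal hH
  exfalso
  haveI := Fintype.ofFinite G
  refine Setup.false' (H := H) (p := p) ⟨hp2, hP, hab, hc, hO, hH, fun t ht ht1 hcen => hH ?_,
    fun S hS hS1 => ?_⟩
  · haveI : (Subgroup.zpowers t).Normal := ⟨fun x hx g => by
      rw [Subgroup.mem_center_iff.1 ((Subgroup.zpowers_le.2 hcen) hx) g, mul_inv_cancel_right]
      exact hx⟩
    exact normal_of_central hP hc hO (Subgroup.zpowers_le.2 ht) (Subgroup.zpowers_le.2 hcen)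
      (ih _ (card_quot_lt _ (by rwa [Ne, Subgroup.zpowers_eq_bot])) _ rfl _ (hP.map _)
        (comm_map hab _) (hc.map hP (QuotientGroup.mk'_surjective _)))
  · exact ih _ (card_sub_lt S hS1) S rfl _ (isPGroup_subgroupOf hP hS) (comm_subgroupOf hab)
      (hc.subgroupOf hS)

/-- Extremely closed abelian subgroups of odd prime power order. -/
theorem extremelyClosed_odd {G : Type u} [Group G] [Finite G] {p : ℕ} [Fact p.Prime] (hp2 : p ≠ 2)
    {H : Subgroup G} (hP : IsPGroup p H) (hab : ∀ a ∈ H, ∀ b ∈ H, a * b = b * a)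
    (hcl : Cfsg.IsExtremelyClosed H) :
    Subgroup.normalClosure (H : Set G) ⊓ Subgroup.normalizer (H : Set G) = H ∧
      Subgroup.normalizer (H : Set G) ⊔ Cfsg.pPrimeCore p G = ⊤ := by
  haveI hOn := H1.pPrimeCore_normal' p G
  have hfac := factorises_abelian hp2 _ G rfl H hP hab (cond_of_extremelyClosed hP hab hcl)
  refine ⟨?_, eq_top_iff.2 fun g _ => ?_⟩
  swap
  · obtain ⟨m, hm, hn⟩ := hfac g
    rw [show g = m * (m⁻¹ * g) by group]
    exact mul_mem (Subgroup.mem_sup_right hm) (Subgroup.mem_sup_left hn)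
  refine le_antisymm ?_ (le_inf (fun x hx => Subgroup.subset_normalClosure hx) Subgroup.le_normalizer)
  set O := Cfsg.pPrimeCore p G with hO
  have hcop : (Nat.card O).Coprime p := H1.card_pPrimeCore_coprime p G
  have hcl' : ∀ o : G, ∀ x ∈ H ⊔ cj o H, x ∈ Subgroup.normalizer (H : Set G) → x ∈ H :=
    fun o x hx hx' => by
      have h1 : x ∈ (H ⊔ cj o H) ⊓ Subgroup.normalizer (H : Set G) := ⟨hx, hx'⟩
      rwa [show (H ⊔ cj o H) ⊓ Subgroup.normalizer (H : Set G) = H from hcl o] at h1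
  have hcond : CondB O H := by
    intro o ho
    refine ⟨O ⊓ (H ⊔ cj o H), inf_le_left, fun h hh => ?_, ?_, fun h hh => ⟨?_, ?_⟩⟩
    · rw [Subgroup.mem_normalizer_iff]
      intro y
      refine and_congr ⟨fun hy => hOn.conj_mem y hy h, fun hy => ?_⟩
        (Subgroup.mem_normalizer_iff.1 (Subgroup.le_normalizer (Subgroup.mem_sup_left hh)) y)
      have h1 := hOn.conj_mem _ hy h⁻¹
      simpa [mul_assoc] using h1
    · refine (Subgroup.eq_bot_iff_forall _).2 fun x hx => ?_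
      exact eq_one_of_mem hP hcop
        (hcl' o x hx.1.2 (centralizer_le_normalizer_self H hx.2)) hx.1.1
    · exact O.mul_mem (hOn.conj_mem o ho h) (O.inv_mem ho)
    · rw [show h * o * h⁻¹ * o⁻¹ = h * (o * h⁻¹ * o⁻¹) by group]
      exact mul_mem (Subgroup.mem_sup_left hh)
        (Subgroup.mem_sup_right (mem_cj.2 (by simpa [mul_assoc] using inv_mem hh)))
  set D := Subgroup.closure {x : G | ∃ h ∈ H, ∃ o ∈ O, x = h * o * h⁻¹ * o⁻¹} with hD
  have hHD : H ≤ Subgroup.normalizer (D : Set G) := by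
    refine Subgroup.le_normalizer_iff.2 fun a ha x hx => ?_
    refine Subgroup.closure_induction (p := fun x _ => a * x * a⁻¹ ∈ D) ?_ (by simp) ?_ ?_ hx
    · rintro _ ⟨h, hh, o, ho, rfl⟩
      refine Subgroup.subset_closure ⟨h, hh, a * o * a⁻¹, hOn.conj_mem o ho a, ?_⟩
      have hcm : a * h = h * a := hab a ha h hh
      have hcm' : a * h⁻¹ = h⁻¹ * a := hab a ha _ (inv_mem hh)
      calc a * (h * o * h⁻¹ * o⁻¹) * a⁻¹ = a * h * o * h⁻¹ * o⁻¹ * a⁻¹ := by group
        _ = h * a * o * h⁻¹ * (a⁻¹ * a) * o⁻¹ * a⁻¹ := by rw [hcm]; group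
        _ = h * a * o * (h⁻¹ * a⁻¹) * (a * o⁻¹ * a⁻¹) := by group
        _ = h * a * o * (a⁻¹ * h⁻¹) * (a * o⁻¹ * a⁻¹) := by
            rw [← mul_inv_rev, ← mul_inv_rev, hcm]
        _ = h * (a * o * a⁻¹) * h⁻¹ * (a * o * a⁻¹)⁻¹ := by group
    · intro b c _ _ hb hc
      rw [show a * (b * c) * a⁻¹ = a * b * a⁻¹ * (a * c * a⁻¹) by group]
      exact mul_mem hb hc
    · intro b _ hb
      rw [show a * b⁻¹ * a⁻¹ = (a * b * a⁻¹)⁻¹ by group]
      exact inv_mem hb
  have hle : Subgroup.normalClosure (H : Set G) ≤ D ⊔ H := by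
    refine (Subgroup.closure_le _).2 fun x hx => ?_
    obtain ⟨a, ha, hc⟩ := Group.mem_conjugatesOfSet_iff.1 hx
    obtain ⟨g, rfl⟩ := isConj_iff.1 hc
    obtain ⟨m, hm, hn⟩ := hfac g
    have hb : m⁻¹ * g * a * (m⁻¹ * g)⁻¹ ∈ H := (Subgroup.mem_normalizer_iff.1 hn a).1 ha
    set b := m⁻¹ * g * a * (m⁻¹ * g)⁻¹ with hbdef
    rw [show g * a * g⁻¹ = (b * m * b⁻¹ * m⁻¹)⁻¹ * b by rw [hbdef]; group]
    exact Subgroup.mul_mem_sup (inv_mem (Subgroup.subset_closure ⟨b, hb, m, hm, rfl⟩)) hb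
  rintro x ⟨hx1, hx2⟩
  obtain ⟨d, hd, h, hh, rfl⟩ := exists_mul_of_mem_sup hHD (hle hx1)
  have hdN : d ∈ Subgroup.normalizer (H : Set G) := by
    rw [show d = d * h * h⁻¹ by group]
    exact mul_mem hx2 (Subgroup.le_normalizer (inv_mem hh))
  have hdO : d ∈ O := (Subgroup.closure_le O).2 (by
    rintro y ⟨a, -, o, ho, rfl⟩
    exact mul_mem (hOn.conj_mem o ho a) (inv_mem ho)) hd
  have hdC : d ∈ Subgroup.centralizer (H : Set G) := by
    refine Subgroup.mem_centralizer_iff.2 fun a ha => ?_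
    have h1 : d * a * d⁻¹ * a⁻¹ = 1 := by
      refine eq_one_of_mem hP hcop
        (mul_mem ((Subgroup.mem_normalizer_iff.1 hdN a).1 ha) (inv_mem ha)) ?_
      rw [show d * a * d⁻¹ * a⁻¹ = d * (a * d⁻¹ * a⁻¹) by group]
      exact mul_mem hdO (hOn.conj_mem _ (inv_mem hdO) a)
    calc a * d = (d * a * d⁻¹ * a⁻¹) * (a * d) := by rw [h1, one_mul]
      _ = d * a := by group
  rw [eq_one_of_mem_closure hp2 hcop hP hab hcond hd hdC, one_mul]
  exact hh

end H31.EXO
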