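import Cfsg.Agent.H31.ExtOdd.Basic
import Cfsg.Agent.H1.Cores

/-!
A minimal counterexample to the factorisation `G = N(H) O_{p'}(G)`: reductions, the local
structure, and the alternative between three generating conjugates and trivial fusion.
-/

set_option autoImplicit false
set_option linter.style.haveILetI false
set_option linter.unusedSectionVars false

namespace H31.EXO

open H70 H68.EC

universe u

variable {G : Type u} [Group G] {p : ℕ}

/-- The `p'`-core of a subgroup, as a subgroup of `G`. -/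
def coreIn (p : ℕ) (S : Subgroup G) : Subgroup G := (Cfsg.pPrimeCore p S).map S.subtype

theorem coreIn_le (S : Subgroup G) : coreIn p S ≤ S := Subgroup.map_subtype_le _

theorem coprime_coreIn [Finite G] (S : Subgroup G) : (Nat.card (coreIn p S)).Coprime p :=
  (H1.card_pPrimeCore_coprime p S).coprime_dvd_left (Subgroup.card_map_dvd _ _)

theorem le_normalizer_coreIn (S : Subgroup G) :
    S ≤ Subgroup.normalizer (coreIn p S : Set G) := by
  haveI := H1.pPrimeCore_normal' p S
  have h := Subgroup.le_normalizer_map (H := Cfsg.pPrimeCore p S) S.subtype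
  rwa [Subgroup.normalizer_eq_top, ← MonoidHom.range_eq_map, Subgroup.range_subtype] at h

theorem le_coreIn [Finite G] {S X : Subgroup G} (hXS : X ≤ S) (hX : (Nat.card X).Coprime p)
    (hn : S ≤ Subgroup.normalizer (X : Set G)) : X ≤ coreIn p S := by
  intro x hx
  haveI : (X.subgroupOf S).Normal := Subgroup.normal_subgroupOf_of_le_normalizer hn
  refine ⟨⟨x, hXS hx⟩, H1.le_pPrimeCore (N := X.subgroupOf S) ?_ hx, rfl⟩
  rwa [Nat.card_congr (Subgroup.subgroupOfEquivOfLe hXS).toEquiv]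

theorem coreIn_inf_le [Finite G] {L X : Subgroup G} (h : L ≤ X) :
    coreIn p X ⊓ L ≤ coreIn p L := by
  refine le_coreIn inf_le_right
    ((coprime_coreIn X).coprime_dvd_left (Subgroup.card_dvd_of_le inf_le_left)) ?_
  intro l hl
  rw [Subgroup.mem_normalizer_iff]
  intro x
  exact and_congr (Subgroup.mem_normalizer_iff.1 (h.trans (le_normalizer_coreIn X) hl) x)
    (Subgroup.mem_normalizer_iff.1 (Subgroup.le_normalizer hl) x)

/-- The factorisation read inside a subgroup. -/
theorem exists_coreIn_mul {H S : Subgroup G} (hHS : H ≤ S) (h : Factorises p (H.subgroupOf S))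
    {x : G} (hx : x ∈ S) :
    ∃ m ∈ coreIn p S, m⁻¹ * x ∈ Subgroup.normalizer (H : Set G) := by
  obtain ⟨m, hm, hn⟩ := h ⟨x, hx⟩
  refine ⟨m, ⟨m, hm, rfl⟩, Subgroup.mem_normalizer_iff.2 fun y => ?_⟩
  have hmem : (m : G)⁻¹ * x ∈ S := mul_mem (inv_mem m.2) hx
  constructor
  · intro hy
    exact (Subgroup.mem_normalizer_iff.1 hn ⟨y, hHS hy⟩).1 hy
  · intro hy
    have hyS : y ∈ S := by
      have h2 := mul_mem (mul_mem (inv_mem hmem) (hHS hy)) hmem
      simpa [mul_assoc] using h2
    exact (Subgroup.mem_normalizer_iff.1 hn ⟨y, hyS⟩).2 hy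

theorem factorises_of_normal {H : Subgroup G} (h : H.Normal) : Factorises p H := fun g =>
  ⟨1, one_mem _, by rw [Subgroup.normalizer_eq_top_iff.2 h]; trivial⟩

/-- Passing to the quotient by a normal `p'`-subgroup. -/
theorem factorises_of_quotient [Finite G] [Fact p.Prime] {H : Subgroup G} (hH : IsPGroup p H)
    (M : Subgroup G) [M.Normal] (hM : (Nat.card M).Coprime p)
    (h : Factorises p (H.map (QuotientGroup.mk' M))) : Factorises p H := by
  intro g
  obtain ⟨m', hm', hn⟩ := h (QuotientGroup.mk' M g)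
  rw [H1.pPrimeCore_quotient p M hM] at hm'
  obtain ⟨m, hm, rfl⟩ := hm'
  rw [← map_inv, ← map_mul] at hn
  set g' := m⁻¹ * g with hg'
  have hle : cj g' H ≤ M ⊔ H := by
    intro x hx
    have h1 : QuotientGroup.mk' M x ∈ cj (QuotientGroup.mk' M g') (H.map (QuotientGroup.mk' M)) := by
      rw [← map_cj]
      exact ⟨x, hx, rfl⟩
    rw [cj_eq_self_iff.2 hn] at h1
    obtain ⟨y, hy, he⟩ := h1
    have h2 : x * y⁻¹ ∈ M := by
      rw [← QuotientGroup.eq_one_iff]
      show QuotientGroup.mk' M (x * y⁻¹) = 1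
      rw [map_mul, map_inv, he, mul_inv_cancel]
    simpa using Subgroup.mul_mem_sup h2 hy
  obtain ⟨k, hk, hkH⟩ := exists_conj_of_le_sup hH (hH.map _) hM
    (by rw [Subgroup.normalizer_eq_top]; exact le_top) hle (card_cj g' H)
  refine ⟨m * k, mul_mem hm (H1.le_pPrimeCore hM hk), cj_eq_self_iff.1 ?_⟩
  rw [show (m * k)⁻¹ * g = k⁻¹ * g' by rw [hg']; group, ← cj_cj]
  rw [show cj g' H = cj k H from hkH.symm, cj_cj, inv_mul_cancel, cj_one]

/-- The `p'`-core of the quotient by a central `p`-subgroup. -/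
theorem core_quotient_central [Finite G] [Fact p.Prime] (hO : Cfsg.pPrimeCore p G = ⊥)
    {Z : Subgroup G} [Z.Normal] (hZ : IsPGroup p Z) (hcen : Z ≤ Subgroup.center G) :
    Cfsg.pPrimeCore p (G ⧸ Z) = ⊥ := by
  haveI := H1.pPrimeCore_normal' p (G ⧸ Z)
  set C := Cfsg.pPrimeCore p (G ⧸ Z) with hC
  set X := C.comap (QuotientGroup.mk' Z) with hX
  have hXn : X.Normal := Subgroup.normal_comap _
  have hZX : Z ≤ X := fun x hx => by
    show QuotientGroup.mk' Z x ∈ C
    rw [show QuotientGroup.mk' Z x = 1 from (QuotientGroup.eq_one_iff x).2 hx]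
    exact one_mem _
  have hCcop : (Nat.card C).Coprime p := H1.card_pPrimeCore_coprime p _
  have hcard : Nat.card (Z.subgroupOf X) * Nat.card C = Nat.card X := by
    rw [Nat.card_congr (Subgroup.subgroupOfEquivOfLe hZX).toEquiv, hX, H1.card_comap_mk']
  have hidx : (Z.subgroupOf X).index = Nat.card C :=
    Nat.eq_of_mul_eq_mul_left Nat.card_pos ((Subgroup.card_mul_index _).trans hcard.symm)
  obtain ⟨K, hK⟩ := Subgroup.exists_right_complement'_of_coprime (N := Z.subgroupOf X) (by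
    rw [hidx, Nat.card_congr (Subgroup.subgroupOfEquivOfLe hZX).toEquiv]
    obtain ⟨k, hk⟩ := hZ.exists_card_eq
    rw [hk]
    exact (hCcop.pow_right k).symm)
  have hKcard : Nat.card K = Nat.card C :=
    Nat.eq_of_mul_eq_mul_left Nat.card_pos (hK.card_mul_card.trans hcard.symm)
  have hKiff : ∀ x : X, x ∈ K ↔ x ^ Nat.card C = 1 := by
    intro x
    constructor
    · intro hx
      rw [← hKcard]
      exact congrArg Subtype.val (pow_card_eq_one' (x := (⟨x, hx⟩ : K)))
    · intro hx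
      obtain ⟨⟨z, k⟩, hzk, -⟩ := Subgroup.isComplement'_def.1 hK |>.existsUnique x
      have hzk' : (z : X) * (k : X) = x := hzk
      have hcz : Commute (z : X) (k : X) :=
        Subtype.ext (Subgroup.mem_center_iff.1 (hcen z.2) ((k : X) : G)).symm
      have hk1 : ((k : X)) ^ Nat.card C = 1 := by
        rw [← hKcard]
        exact congrArg Subtype.val (pow_card_eq_one' (x := k))
      rw [← hzk', hcz.mul_pow, hk1, mul_one] at hx
      have hz1 : (z : X) = 1 := Subtype.ext
        (eq_one_of_coprime hZ hCcop z.2 (congrArg Subtype.val hx))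
      rw [← hzk', hz1, one_mul]
      exact k.2
  have hKn : (K.map X.subtype).Normal := by
    refine ⟨?_⟩
    rintro _ ⟨k, hk, rfl⟩ g
    refine ⟨⟨g * k * g⁻¹, hXn.conj_mem _ k.2 g⟩, (hKiff _).2 (Subtype.ext ?_), rfl⟩
    show (g * (k : G) * g⁻¹) ^ Nat.card C = 1
    rw [conj_pow, show (k : G) ^ Nat.card C = 1 from congrArg Subtype.val ((hKiff k).1 hk),
      mul_one, mul_inv_cancel]
  have hKbot : K.map X.subtype = ⊥ := by
    rw [← le_bot_iff, ← hO]
    exact H1.le_pPrimeCore ((hKcard.symm ▸ hCcop).coprime_dvd_left (Subgroup.card_map_dvd _ _))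
  rw [(Subgroup.map_eq_bot_iff_of_injective _ X.subtype_injective).1 hKbot, Subgroup.card_bot]
    at hKcard
  exact Subgroup.card_eq_one.1 hKcard.symm

/-- A central element of order `p` normalised away. -/
theorem normal_of_central [Finite G] [Fact p.Prime] {H : Subgroup G} (hH : IsPGroup p H)
    (hc : Cond p H) (hO : Cfsg.pPrimeCore p G = ⊥) {Z : Subgroup G} [Z.Normal] (hZH : Z ≤ H)
    (hcen : Z ≤ Subgroup.center G) (h : Factorises p (H.map (QuotientGroup.mk' Z))) :
    H.Normal := by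
  refine normal_of_forall_cj fun g => cj_eq_of_le_normalizer hH hc fun x hx => ?_
  obtain ⟨m', hm', hn⟩ := h (QuotientGroup.mk' _ g)
  rw [core_quotient_central hO (hH.to_le hZH) hcen, Subgroup.mem_bot] at hm'
  rw [hm', inv_one, one_mul] at hn
  have h1 : QuotientGroup.mk' Z x ∈ cj (QuotientGroup.mk' _ g) (H.map (QuotientGroup.mk' Z)) := by
    rw [← map_cj]
    exact ⟨x, hx, rfl⟩
  rw [cj_eq_self_iff.2 hn] at h1
  obtain ⟨y, hy, he⟩ := h1
  have h2 : x * y⁻¹ ∈ Z := by
    rw [← QuotientGroup.eq_one_iff]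
    show QuotientGroup.mk' Z (x * y⁻¹) = 1
    rw [map_mul, map_inv, he, mul_inv_cancel]
  simpa using Subgroup.le_normalizer (mul_mem (hZH h2) hy)

/-- The normal closure may be assumed to be the whole group. -/
theorem normal_of_normal_overgroup [Finite G] [Fact p.Prime] {H : Subgroup G} (hH : IsPGroup p H)
    (hc : Cond p H) (hO : Cfsg.pPrimeCore p G = ⊥) (S : Subgroup G) [hS : S.Normal] (hHS : H ≤ S)
    (h : Factorises p (H.subgroupOf S)) : H.Normal := by
  have hcore : coreIn p S = ⊥ := by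
    rw [← le_bot_iff, ← hO]
    haveI : (coreIn p S).Normal := by
      haveI := H1.pPrimeCore_characteristic p S
      exact H1.map_subtype_normal_of_characteristic S _
    exact H1.le_pPrimeCore (coprime_coreIn S)
  refine normal_of_forall_cj fun g => cj_eq_of_le_normalizer hH hc fun x hx => ?_
  have hxS : x ∈ S := by
    have h2 := hS.conj_mem _ (hHS (mem_cj.1 hx)) g
    simpa [mul_assoc] using h2
  obtain ⟨m, hm, hn⟩ := exists_coreIn_mul hHS h hxS
  rw [hcore, Subgroup.mem_bot] at hm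
  simpa [hm] using hn

/-- A minimal counterexample. -/
structure Setup (p : ℕ) (H : Subgroup G) : Prop where
  odd : p ≠ 2
  isP : IsPGroup p H
  comm : ∀ a ∈ H, ∀ b ∈ H, a * b = b * a
  cond : Cond p H
  core : Cfsg.pPrimeCore p G = ⊥
  notNormal : ¬ H.Normal
  noCentral : ∀ t ∈ H, t ≠ 1 → t ∉ Subgroup.center G
  sub : ∀ S : Subgroup G, H ≤ S → S ≠ ⊤ → Factorises p (H.subgroupOf S)

/-- No fusion in `H`: each element is congruent to its conjugates. -/
def Fixed (p : ℕ) (H : Subgroup G) : Prop :=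
  ∀ g : G, ∀ k ∈ H, g * k * g⁻¹ * k⁻¹ ∈ coreIn p (H ⊔ cj g H)

namespace Setup

variable [Finite G] [Fact p.Prime] {H : Subgroup G} (S : Setup p H)
include S

theorem exists_ne_one : ∃ t ∈ H, t ≠ 1 := by
  by_contra h
  push Not at h
  refine S.notNormal ?_
  rw [(Subgroup.eq_bot_iff_forall H).2 h]
  infer_instance

theorem eq_top_of_normal (N : Subgroup G) [N.Normal] (hN : H ≤ N) : N = ⊤ := by
  by_contra h
  exact S.notNormal (normal_of_normal_overgroup S.isP S.cond S.core N hN (S.sub N hN h))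

theorem le_cent {t : G} (ht : t ∈ H) : H ≤ Subgroup.centralizer {t} := fun x hx =>
  Subgroup.mem_centralizer_singleton_iff.2 (S.comm x hx t ht)

theorem decomp {t x : G} (ht : t ∈ H) (ht1 : t ≠ 1) (hx : x ∈ Subgroup.centralizer {t}) :
    ∃ m ∈ coreIn p (Subgroup.centralizer {t}), m⁻¹ * x ∈ Subgroup.normalizer (H : Set G) := by
  refine exists_coreIn_mul (S.le_cent ht)
    (S.sub _ (S.le_cent ht) fun h => S.noCentral t ht ht1 ?_) hx
  exact Subgroup.mem_center_iff.2 fun g =>
    Subgroup.mem_centralizer_singleton_iff.1 (h ▸ Subgroup.mem_top g)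

/-- The centraliser of `z ∈ H` in a fixed point free `p'`-group lies in the core of `C(z)`. -/
theorem cent_le_core {K : Subgroup G} (hK : (Nat.card K).Coprime p)
    (hHK : H ≤ Subgroup.normalizer (K : Set G))
    (hKC : K ⊓ Subgroup.centralizer (H : Set G) = ⊥) {z x : G} (hz : z ∈ H) (hz1 : z ≠ 1)
    (hx : x ∈ K) (hzx : Commute z x) : x ∈ coreIn p (Subgroup.centralizer {z}) := by
  set C := Subgroup.centralizer ({z} : Set G) with hC
  set T := K ⊓ C with hT
  have hxC : x ∈ C := Subgroup.mem_centralizer_singleton_iff.2 hzx.symm.eq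
  have hTc : (Nat.card T).Coprime p := hK.coprime_dvd_left (Subgroup.card_dvd_of_le inf_le_left)
  have hHT : ∀ h ∈ H, ∀ y : G, y ∈ T ↔ h * y * h⁻¹ ∈ T := fun h hh y =>
    and_congr (Subgroup.mem_normalizer_iff.1 (hHK hh) y)
      (Subgroup.mem_normalizer_iff.1 (Subgroup.le_normalizer (S.le_cent hz hh)) y)
  have hHθ : ∀ h ∈ H, ∀ y : G, y ∈ coreIn p C ↔ h * y * h⁻¹ ∈ coreIn p C := fun h hh y =>
    Subgroup.mem_normalizer_iff.1 (le_normalizer_coreIn _ (S.le_cent hz hh)) y
  have hmem : x ∈ T ⊓ coreIn p C := by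
    refine mem_of_commutators S.isP (hTc.coprime_dvd_left (Subgroup.card_dvd_of_le inf_le_left))
      (fun h hh => ?_) inf_le_left (le_bot_iff.1 ((inf_le_inf_right _ inf_le_left).trans hKC.le))
      ⟨hx, hxC⟩ fun h hh => ?_
    · rw [Subgroup.mem_normalizer_iff]
      exact fun y => and_congr (hHT h hh y) (hHθ h hh y)
    · obtain ⟨m, hm, hn⟩ := S.decomp hz hz1 hxC
      set n := m⁻¹ * x with hndef
      have hct : h * x * h⁻¹ * x⁻¹ ∈ T := mul_mem ((hHT h hh x).1 ⟨hx, hxC⟩) (inv_mem ⟨hx, hxC⟩)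
      set w := h * n * h⁻¹ * n⁻¹ with hw
      have hwH : w ∈ H := by
        rw [hw, show h * n * h⁻¹ * n⁻¹ = h * (n * h⁻¹ * n⁻¹) by group]
        exact mul_mem hh ((Subgroup.mem_normalizer_iff.1 hn _).1 (inv_mem hh))
      have homem : h * m * h⁻¹ * (w * m⁻¹ * w⁻¹) ∈ coreIn p C :=
        mul_mem ((hHθ h hh m).1 hm) ((hHθ w hwH _).1 (inv_mem hm))
      have e : h * x * h⁻¹ * x⁻¹ = h * m * h⁻¹ * (w * m⁻¹ * w⁻¹) * w := by
        rw [hw, hndef]; group
      obtain ⟨o', ho', e'⟩ :=
        H31.EXO.exists_mul_pow (le_normalizer_coreIn C (S.le_cent hz hwH)) homem (Nat.card T)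
      rw [← e, show (h * x * h⁻¹ * x⁻¹) ^ Nat.card T = 1 from
        congrArg Subtype.val (pow_card_eq_one' (x := (⟨_, hct⟩ : T)))] at e'
      have hwn : w ^ Nat.card T = 1 := eq_one_of_mem S.isP (coprime_coreIn C) (pow_mem hwH _) (by
        rw [eq_inv_of_mul_eq_one_right e'.symm]
        exact inv_mem ho')
      refine ⟨hct, ?_⟩
      have hw1 : w = 1 := eq_one_of_coprime S.isP hTc hwH hwn
      rw [hw1] at homem e
      rw [e, mul_one]
      exact homem
  exact hmem.2

/-- Either three conjugates of `H` generate, or there is no fusion. -/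
theorem exists_generating_or_fixed :
    (∃ g h : G, H ⊔ cj g H ⊔ cj h H = ⊤) ∨ Fixed p H := by
  classical
  refine or_iff_not_imp_left.2 fun hne => ?_
  push Not at hne
  -- conjugates inside a proper join are moved by its core
  have hX : ∀ g h g' : G, cj g' H ≤ H ⊔ cj g H ⊔ cj h H → ∀ x ∈ cj g' H,
      ∃ w ∈ H, x * w⁻¹ ∈ coreIn p (H ⊔ cj g H ⊔ cj h H) := by
    intro g h g' hle x hx
    set X := H ⊔ cj g H ⊔ cj h H with hXdef
    have hVX : H ≤ X := le_sup_left.trans le_sup_left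
    obtain ⟨K, hK1, hK2, hK3, hK4, -⟩ := S.cond g'
    obtain ⟨k, hk, he⟩ := exists_conj_of_le_sup (H' := cj g' H) S.isP (S.isP.map _) hK2
      (le_sup_left.trans hK3) hK4 (card_cj g' H)
    obtain ⟨m, hm, hn⟩ := exists_coreIn_mul hVX (S.sub X hVX (hne g h))
      (sup_le hVX hle (hK1 hk))
    have e : cj g' H = cj m H := by
      rw [← he, show k = m * (m⁻¹ * k) by group, ← cj_cj, cj_eq_self_iff.2 hn]
    rw [e] at hx
    have hw := mem_cj.1 hx
    refine ⟨m⁻¹ * x * m, hw, ?_⟩
    have h2 := (Subgroup.mem_normalizer_iff.1 (le_normalizer_coreIn X (hVX hw)) m⁻¹).1 (inv_mem hm)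
    have h3 := mul_mem hm h2
    convert h3 using 1
    group
  let Φ : G → Prop := fun y => ∀ g s v : G, s ∈ cj g H → v ∈ H →
    s * v⁻¹ ∈ coreIn p (H ⊔ cj g H) → y * s * y⁻¹ * v⁻¹ ∈ coreIn p (H ⊔ cj (y * g) H)
  have hone : Φ 1 := fun g s v _ _ h => by simpa using h
  have hmul : ∀ a b, Φ a → Φ b → Φ (a * b) := by
    intro a b ha hb g s v hs hv h
    have hs' : b * s * b⁻¹ ∈ cj (b * g) H := by
      rw [← cj_cj]
      exact ⟨s, hs, rfl⟩
    have h2 := ha (b * g) _ v hs' hv (hb g s v hs hv h)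
    rw [mul_assoc a b g]
    convert h2 using 1
    group
  have hpow : ∀ a, Φ a → ∀ j : ℕ, Φ (a ^ j) := by
    intro a ha j
    induction j with
    | zero => simpa using hone
    | succ j ih => rw [pow_succ]; exact hmul _ _ ih ha
  let T : Subgroup G :=
    { carrier := {y | Φ y}
      one_mem' := hone
      mul_mem' := fun ha hb => hmul _ _ ha hb
      inv_mem' := fun {a} ha => by
        show Φ a⁻¹
        have e : a⁻¹ = a ^ (orderOf a - 1) := by
          rw [inv_eq_iff_mul_eq_one, ← pow_succ', Nat.sub_add_cancel (orderOf_pos a),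
            pow_orderOf_eq_one]
        rw [e]
        exact hpow a ha _ }
  have hgen : ∀ h : G, cj h H ≤ T := by
    intro h y hy g s v hs hv hcore
    set X := H ⊔ cj g H ⊔ cj h H with hXdef
    have hVX : H ≤ X := le_sup_left.trans le_sup_left
    have hyX : y ∈ X := le_sup_right (a := H ⊔ cj g H) hy
    have hgX : cj g H ≤ X := le_sup_right.trans le_sup_left
    obtain ⟨v₁, hv1, ho⟩ := hX g h g hgX s hs
    have hLX : H ⊔ cj g H ≤ X := le_sup_left
    have hL1 : s * v₁⁻¹ ∈ H ⊔ cj g H :=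
      mul_mem (Subgroup.mem_sup_right hs) (Subgroup.mem_sup_left (inv_mem hv1))
    have hvv : v₁ = v := by
      have h1 := mul_mem (inv_mem hcore) (coreIn_inf_le hLX ⟨ho, hL1⟩)
      have h2 : v * v₁⁻¹ ∈ coreIn p (H ⊔ cj g H) := by
        convert h1 using 1
        group
      exact (mul_inv_eq_one.1
        (eq_one_of_mem S.isP (coprime_coreIn _) (mul_mem hv (inv_mem hv1)) h2)).symm
    subst hvv
    obtain ⟨w, hw, hoy⟩ := hX g h h le_sup_right y hy
    have hcjX : cj (y * g) H ≤ X := by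
      rw [← cj_cj]
      intro z hz
      have h1 := hgX (mem_cj.1 hz)
      have h2 := mul_mem (mul_mem hyX h1) (inv_mem hyX)
      simpa [mul_assoc] using h2
    have hL2 : H ⊔ cj (y * g) H ≤ X := sup_le hVX hcjX
    refine coreIn_inf_le hL2
      ⟨?_, mul_mem (Subgroup.mem_sup_right ?_) (Subgroup.mem_sup_left (inv_mem hv))⟩
    · have hnX : ∀ z ∈ X, ∀ o ∈ coreIn p X, z * o * z⁻¹ ∈ coreIn p X := fun z hz o hom =>
        (Subgroup.mem_normalizer_iff.1 (le_normalizer_coreIn X hz) o).1 hom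
      have hwv : w * v₁ = v₁ * w := S.comm w hw v₁ hv
      have h3 := mul_mem (hnX y hyX _ ho) (mul_mem hoy (hnX v₁ (hVX hv) _ (inv_mem hoy)))
      have e : y * s * y⁻¹ * v₁⁻¹ =
          y * (s * v₁⁻¹) * y⁻¹ * (y * w⁻¹ * (v₁ * (y * w⁻¹)⁻¹ * v₁⁻¹)) := by
        calc y * s * y⁻¹ * v₁⁻¹
            = y * (s * v₁⁻¹) * y⁻¹ * (y * w⁻¹ * (w * v₁) * y⁻¹ * v₁⁻¹) := by group
          _ = _ := by rw [hwv]; group
      rw [e]
      exact h3
    · rw [← cj_cj]
      exact ⟨s, hs, rfl⟩
  have hT : T = ⊤ := by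
    have h1 : Subgroup.normalClosure (H : Set G) ≤ T := by
      refine Subgroup.closure_le _ |>.2 fun x hx => ?_
      obtain ⟨a, ha, hc⟩ := Group.mem_conjugatesOfSet_iff.1 hx
      obtain ⟨c, rfl⟩ := isConj_iff.1 hc
      exact hgen c ⟨a, ha, rfl⟩
    exact top_le_iff.1 ((S.eq_top_of_normal _ Subgroup.subset_normalClosure).ge.trans h1)
  intro g k hk
  have hgT : g ∈ T := hT ▸ Subgroup.mem_top g
  have h1 := hgT 1 k k (by rw [cj_one]; exact hk) hk (by rw [mul_inv_cancel]; exact one_mem _)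
  rwa [mul_one] at h1

end Setup

end H31.EXO
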